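/-
The six-dimensional module of `G₂(4)` (as a twelve-dimensional module over `𝔽₂`), from the Steinberg presentation:
groups of unbounded order with the prime graph of `G₂(4)`.
-/
import Cfsg.Agent.Comp.U34Mod
import Cfsg.Agent.Spor.MxF2
import Cfsg.Agent.S1078
import Cfsg.Agent.S1059
import Cfsg.Agent.S1055

namespace CL.Comp

open CL.Perm CL.Mx Cfsg.Lie Matrix

/-- The field with 4 elements. -/
def G4 : Type := Fin 4

namespace G4

instance instDecEq : DecidableEq G4 := inferInstanceAs (DecidableEq (Fin 4))
instance instFintype : Fintype G4 := inferInstanceAs (Fintype (Fin 4))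

/-- The element with code `n % 4`. -/
def mk (n : ℕ) : G4 := (⟨n % 4, Nat.mod_lt _ (by decide)⟩ : Fin 4)

/-- The code of an element. -/
def val (a : G4) : ℕ := (show Fin 4 from a).1

instance instAdd : Add G4 := ⟨fun a b => mk (Nat.xor a.val b.val)⟩
instance instMul : Mul G4 := ⟨fun a b => mk (Nat.shiftRight 0x9c78e400 (2 * (4 * a.val + b.val)))⟩
instance instNeg : Neg G4 := ⟨fun a => a⟩
instance instInv : Inv G4 := ⟨fun a => mk (Nat.shiftRight 0xb4 (2 * a.val))⟩
instance instZero : Zero G4 := ⟨mk 0⟩
instance instOne : One G4 := ⟨mk 1⟩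

instance instField : Field G4 :=
  Field.ofMinimalAxioms G4 (by decide +kernel) (by decide +kernel) (by decide +kernel) (by decide +kernel)
    (by decide +kernel) (by decide +kernel) (by decide +kernel) (by decide +kernel) (by decide +kernel)
    ⟨0, 1, by decide +kernel⟩

theorem card_eq : Fintype.card G4 = 4 := rfl

end G4

/-- If an element `g` of prime order `r` fixes no nonzero vector and `r ^ 2` does not divide the group order, no element
of order `r` fixes a nonzero vector. -/
theorem fpf_of_sylow {G V : Type*} [Group G] [Finite G] [AddCommGroup V] (ρ : G →* AddMonoid.End V) {r : ℕ}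
    (hr : r.Prime) (h2 : ¬ r ^ 2 ∣ Nat.card G) {g : G} (hg : orderOf g = r) (hf : ∀ w, ρ g w = w → w = 0)
    (h : G) (hh : orderOf h = r) (w : V) (hw : ρ h w = w) : w = 0 := by
  obtain ⟨c, hc⟩ := exists_conj_zpowers_eq hr h2 hh hg
  rw [← mem_powers_iff_mem_zpowers] at hc
  obtain ⟨k, hk⟩ := hc
  have h1 : ρ (c⁻¹ * h * c) (ρ c⁻¹ w) = ρ c⁻¹ w := by
    rw [← Aff.rho_mul_apply, mul_assoc, mul_inv_cancel, mul_one, Aff.rho_mul_apply, hw]
  have h3 := hf (ρ c⁻¹ w) (by rw [← hk]; exact Aff.rho_pow_of_fixed h1 k)
  rw [← Aff.rho_one_apply ρ w, ← mul_inv_cancel c, Aff.rho_mul_apply, h3, map_zero]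

theorem dec2_xor (n a b : ℕ) : dec2 n (Nat.xor a b) = dec2 n a + dec2 n b := by
  ext i j
  exact (congrArg b2 (Nat.testBit_xor a b _)).trans (b2_xor _ _)

/-- the matrix coded by `a` fixes no nonzero vector, by an inverse of `a - 1` -/
theorem fpf_of_code {n a c : ℕ} (h : mul2 n c (Nat.xor a (one2 n)) = one2 n) (w : Fin n → ZMod 2)
    (hw : dec2 n a *ᵥ w = w) : w = 0 := by
  have h1 := congrArg (fun x => dec2 n x *ᵥ w) h
  simp only [dec2_mul2, dec2_xor, dec2_one2, ← mulVec_mulVec, add_mulVec, hw, one_mulVec] at h1
  rw [← h1, show w + w = 0 from funext fun i => CharTwo.add_self_eq_zero _, mulVec_zero]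

/-- powers of packed matrices -/
noncomputable def pow2 (n a k : ℕ) : ℕ := Nat.rec (motive := fun _ => ℕ) (one2 n) (fun _ ih => mul2 n ih a) k

theorem dec2_pow2 (n a k : ℕ) : dec2 n (pow2 n a k) = dec2 n a ^ k := by
  induction k with
  | zero => exact dec2_one2 n
  | succ k ih => rw [pow_succ, ← ih]; exact dec2_mul2 _ _

theorem dec2_ne_one {n a : ℕ} (h : ∃ i j : Fin n, a.testBit (i * n + j) ≠ (one2 n).testBit (i * n + j)) :
    dec2 n a ≠ 1 := fun e => by
  obtain ⟨i, j, h⟩ := h
  rw [← dec2_one2] at e
  exact h (b2_inj (congrFun (congrFun e i) j))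

namespace G24

/-- the matrices of the root elements -/
def T : ℕ := 0x800400200100080040020010408c04102301800400200100080040020010c08804302201800400200100080040020010808404202101800400200100080040020010008004002001800400200100080040420c100080040420c1800400200100080040c208100080040c20818004002001000800408204100080040820418004002001000800400200100080040020018004002001000800401203100480c4c028018004002001000800403202100c8084402c01800400200100080040220110088044802401800400200100080040020010008004002001800400200100480c40020010308204012031800400200100c80840020010108304032021800400200100880440020010208104022011800400200100080040020010008004002001800400600d000800400e009000800400600d800400e009000800400600d000800400e009800400a005000800400a005000800400a0058004002001000800400200100080040020018004002001001803400200100180340020018004002001003802400200100380240020018004002001002801400200100280140020018004002001000800400200100080040020018004002401c008004002401c0080040020018004002c018008004002c018008004002001800400280140080040028014008004002001800400200100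0800400200100080040020019007002001000b0060020010009007002001b0060020010009007002001000b006002001a005002001000a005002001000a0050020018004002001000800400200100080040020018404c020c1080800400210130080040020018c048020410c08004002301200800400200188044020810408004002201100800400200180040020010008004002001000800400200180340221013008404c02001000800400200180140323012008c04802001000800400200180240122011008804402001000800400200180040020010008004002001000800400200181043020010008104302001000800400200183042020010008304202001000800400200182041020010008204102001000800400200180040020010008004002001000800400200180440c20110308004002001000800400200180c408203102080040020010008004002001808404202101080040020010008004002001800400200100080040020010008004002001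

/-- code of the root element `x_r(t)` -/
def Y (r : ℕ) (t : G4) : ℕ := if r < 12 then Nat.shiftRight T (144 * (4 * r + t.val)) % 2 ^ 144 else one2 12

theorem Y_sq (r : ℕ) (t : G4) : dec2 12 (Y r t) * dec2 12 (Y r t) = 1 := by
  rw [← dec2_mul2, ← dec2_one2]
  congr 1
  by_cases h : r < 12
  · exact (by decide +kernel : ∀ r < 12, ∀ t, mul2 12 (Y r t) (Y r t) = one2 12) r h t
  · rw [Y, if_neg h]; decide +kernel

/-- the root element as an invertible matrix -/
def yU (r : ℕ) (t : G4) : GL (Fin 12) (ZMod 2) := ⟨dec2 12 (Y r t), dec2 12 (Y r t), Y_sq r t, Y_sq r t⟩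

/-- code of a word -/
noncomputable def ev (w : List (ℕ × G4)) : ℕ :=
  List.rec (motive := fun _ => ℕ) (one2 12) (fun p _ ih => mul2 12 (Y p.1 p.2) ih) w

/-- value of a word -/
def evU (w : List (ℕ × G4)) : GL (Fin 12) (ZMod 2) := (w.map fun p => yU p.1 p.2).prod

theorem evU_val (w : List (ℕ × G4)) : (evU w).val = dec2 12 (ev w) := by
  induction w with
  | nil => exact (dec2_one2 12).symm
  | cons p w ih =>
    rw [evU, List.map_cons, List.prod_cons, Units.val_mul, ← evU, ih]
    exact (dec2_mul2 _ _).symm

theorem evU_eq {v w : List (ℕ × G4)} (h : ev v = ev w) : evU v = evU w := Units.ext (by rw [evU_val, evU_val, h])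

theorem rel1 : ∀ r < 12, ∀ t u, ev [(r, t), (r, u)] = ev [(r, t + u)] := by decide +kernel

set_option synthInstance.maxSize 1000 in
theorem rel2 : ∀ r < 12, ∀ s < 12, s ≠ r → s ≠ chevG2.neg r → ∀ t u,
    ev [(s, u), (r, t)] = ev ((r, t) :: (s, u) :: chevG2.commWord G4 r s t u) := by decide +kernel

theorem rel3 : ∀ r < 12, ∀ t u : G4, t ≠ 0 → u ≠ 0 →
    ev (chevG2.hWord r t ++ chevG2.hWord r u) = ev (chevG2.hWord r (t * u)) := by decide +kernel

variable {F : Type*} [Field F] (e : F ≃+* G4)

/-- the images of the generators -/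
def fy (p : Fin chevG2.nroots × F) : GL (Fin 12) (ZMod 2) := yU p.1 (e p.2)

/-- the map on the free group -/
abbrev fr : FreeGroup (Fin chevG2.nroots × F) →* GL (Fin 12) (ZMod 2) := FreeGroup.lift (fy e)

theorem fr_stX (r : ℕ) (t : F) : fr e (chevG2.stX r t) = yU r (e t) := by
  unfold ChevalleyDatum.stX
  split_ifs with h
  · exact FreeGroup.lift_apply_of
  · rw [map_one]
    refine Units.ext ?_
    change 1 = dec2 12 (Y r (e t))
    rw [Y, if_neg (show ¬ r < 12 from h), dec2_one2]

theorem fr_stWord (w : List (ℕ × F)) : fr e (chevG2.stWord w) = evU (w.map fun p => (p.1, e p.2)) := by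
  simp only [ChevalleyDatum.stWord, evU, map_list_prod, List.map_map, Function.comp_def, fr_stX]

theorem map_hWord (r : ℕ) (t : F) : ((chevG2.hWord r t).map fun p => (p.1, e p.2)) = chevG2.hWord r (e t) := by
  simp [ChevalleyDatum.hWord, ChevalleyDatum.nWord]

theorem fr_rels : ∀ g ∈ chevG2.steinbergRels F, fr e g = 1 := by
  rintro _ ((⟨r, t, u, hr, rfl⟩ | ⟨r, s, t, u, hr, hs, h1, h2, rfl⟩) | ⟨r, t, u, hr, h1, h2, rfl⟩)
  · have h := evU_eq (rel1 r hr (e t) (e u))
    simp only [evU, List.map_cons, List.map_nil, List.prod_cons, List.prod_nil, mul_one] at h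
    simp only [map_mul, map_inv, fr_stX, map_add, h, mul_inv_cancel]
  · have h := evU_eq (rel2 r hr s hs h1 h2 (e t) (e u))
    have h3 : ((chevG2.commWord F r s t u).map fun p => (p.1, e p.2)) = chevG2.commWord G4 r s (e t) (e u) := by
      simp [ChevalleyDatum.commWord]
    simp only [map_mul, map_inv, fr_stX, fr_stWord, h3]
    simp only [evU, List.map_cons, List.map_nil, List.prod_cons, List.prod_nil, mul_one] at h ⊢
    rw [mul_assoc _ (yU s (e u)), h]
    group
  · have h := evU_eq (rel3 r hr (e t) (e u) ((map_ne_zero e).2 h1) ((map_ne_zero e).2 h2))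
    simp only [map_mul, map_inv, ChevalleyDatum.stH, fr_stWord, map_hWord, ← h]
    simp only [evU, List.map_append, List.prod_append, mul_inv_cancel]

/-- the representation of the Steinberg group -/
def rho : chevG2.SteinbergGroup F →* GL (Fin 12) (ZMod 2) :=
  PresentedGroup.toGroup (f := fy e) (fr_rels e)

/-- a word in the Steinberg group -/
def wd (w : List (ℕ × G4)) : chevG2.SteinbergGroup F :=
  PresentedGroup.mk _ (chevG2.stWord (w.map fun p => (p.1, e.symm p.2)))

theorem rho_wd (w : List (ℕ × G4)) : (rho e (wd e w)).val = dec2 12 (ev w) := by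
  have h : rho e (wd e w) = fr e (chevG2.stWord (w.map fun p => (p.1, e.symm p.2))) := rfl
  rw [h, fr_stWord, List.map_map, ← evU_val]
  simp [Function.comp_def]

/-- the Steinberg group is the Chevalley group -/
noncomputable def stEquiv (F : Type*) [Field F] : chevG2.SteinbergGroup F ≃* chevG2.group F :=
  MulEquiv.ofBijective (CL.Chev.realG2.θS F) ⟨by
    rw [← MonoidHom.ker_eq_bot_iff, CL.Chev.realG2.θS_ker]
    exact Cfsg.Agent.S1078.result _ (by simp), CL.Chev.realG2.θS_surjective F⟩

theorem rho_injective : Function.Injective (rho e) := by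
  have : IsSimpleGroup (chevG2.group F) := (Cfsg.Agent.S1055.result ⟨e.symm (G4.mk 2),
    fun h => absurd ((map_eq_zero e.symm).1 h) (by decide), fun h => absurd ((map_eq_one_iff e.symm e.symm.injective).1 h)
      (by decide)⟩).1
  have := (stEquiv F).isSimpleGroup
  rw [← MonoidHom.ker_eq_bot_iff]
  refine (Subgroup.Normal.eq_bot_or_eq_top inferInstance).resolve_right fun h => ?_
  have h1 : rho e (wd e [(0, 1)]) = 1 := MonoidHom.mem_ker.1 (h ▸ Subgroup.mem_top _)
  have h2 := rho_wd e [(0, 1)]
  rw [h1] at h2
  exact dec2_ne_one (by decide +kernel) h2.symm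

theorem orderOf_wd (w : List (ℕ × G4)) {n : ℕ} (hn : 0 < n) (h1 : pow2 12 (ev w) n = one2 12)
    (h2 : ∀ p < n + 1, p.Prime → p ∣ n →
      ∃ i j : Fin 12, (pow2 12 (ev w) (n / p)).testBit (i * 12 + j) ≠ (one2 12).testBit (i * 12 + j)) :
    orderOf (wd e w) = n := by
  rw [← orderOf_injective _ (rho_injective e), ← orderOf_units, rho_wd]
  refine orderOf_eq_of_pow_and_pow_div_prime hn (by rw [← dec2_pow2, h1, dec2_one2]) fun p hp hd => ?_
  rw [← dec2_pow2]
  exact dec2_ne_one (h2 p (Nat.lt_succ_of_le (Nat.le_of_dvd hn hd)) hp hd)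

/-- the action on vectors -/
def act : chevG2.SteinbergGroup F →* AddMonoid.End (Fin 12 → ZMod 2) := matAct ((Units.coeHom _).comp (rho e))

theorem act_wd (w : List (ℕ × G4)) (v : Fin 12 → ZMod 2) : act e (wd e w) v = dec2 12 (ev w) *ᵥ v := by
  rw [← rho_wd e]; rfl

theorem exists_large [Fintype F] (hF : Fintype.card F = 4) (N : ℕ) :
    ∃ (H : Type) (_ : Group H) (_ : Finite H), N < Nat.card H ∧ SamePG (chevG2.group F) H := by
  let e : F ≃+* G4 := FiniteField.ringEquivOfCardEq hF
  have hc : Nat.card (chevG2.SteinbergGroup F) = 251596800 :=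
    (Nat.card_congr (stEquiv F).toEquiv).trans (Cfsg.Agent.S1059.result hF)
  have : Finite (chevG2.SteinbergGroup F) := Nat.finite_of_card_ne_zero (by rw [hc]; norm_num)
  refine Aff.exists_large_samePG_aff' (ρ := act e) ((samePG_congr (stEquiv F).symm).trans ?_) N
  refine Aff.samePG (p := 2) Nat.prime_two (fun v => by ext; simp [CharTwo.two_eq_zero]) (by rw [hc]; norm_num) ?_
  intro g hg hg2
  have hd := orderOf_dvd_natCard g
  rw [hc, show 251596800 = 2 ^ 12 * (3 ^ 3 * (5 ^ 2 * (7 * 13))) by norm_num, hg.dvd_mul, hg.dvd_mul, hg.dvd_mul,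
    hg.dvd_mul] at hd
  rcases hd with h | h | h | h | h
  · exact absurd ((Nat.prime_dvd_prime_iff_eq hg Nat.prime_two).1 (hg.dvd_of_dvd_pow h)) hg2
  · right
    rw [(Nat.prime_dvd_prime_iff_eq hg Nat.prime_three).1 (hg.dvd_of_dvd_pow h)]
    exact ⟨_, orderOf_wd e [(3, G4.mk 3), (10, 1), (6, 1)] (by norm_num) (by decide +kernel) (by decide +kernel)⟩
  · right
    rw [(Nat.prime_dvd_prime_iff_eq hg Nat.prime_five).1 (hg.dvd_of_dvd_pow h)]
    exact ⟨_, orderOf_wd e [(4, G4.mk 3), (0, 1), (7, 1)] (by norm_num) (by decide +kernel) (by decide +kernel)⟩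
  · left
    refine fpf_of_sylow (act e) (r := 7) (by norm_num) (by rw [hc]; norm_num)
      (orderOf_wd e [(7, G4.mk 3), (1, G4.mk 2), (8, G4.mk 2)] (by norm_num) (by decide +kernel) (by decide +kernel))
      (fun w hw => ?_) g ((Nat.prime_dvd_prime_iff_eq hg (by norm_num)).1 h)
    rw [act_wd] at hw
    exact fpf_of_code (c := 15333804022086188295682996290899721007137472) (by decide +kernel) w hw
  · left
    refine fpf_of_sylow (act e) (r := 13) (by norm_num) (by rw [hc]; norm_num)
      (orderOf_wd e [(6, G4.mk 3), (5, G4.mk 2), (2, G4.mk 2), (7, G4.mk 2)] (by norm_num) (by decide +kernel)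
        (by decide +kernel))
      (fun w hw => ?_) g ((Nat.prime_dvd_prime_iff_eq hg (by norm_num)).1 h)
    rw [act_wd] at hw
    exact fpf_of_code (c := 1737878104906256193256397951309631964850177) (by decide +kernel) w hw

end G24

end CL.Comp
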