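/-
Prime graphs from certificates: element orders and centralisers in the permutation engine.
-/
import Cfsg.Agent.Comp.G24Mod
import Cfsg.Agent.Spor.PGStruct

namespace CL.Comp

open CL.Perm

/-- The prime graph of `G` has vertex list `V` and edge list `E`. -/
def HasPG (G : Type*) [Group G] (V : List ℕ) (E : List (ℕ × ℕ)) : Prop :=
  (∀ p : ℕ, p.Prime → (p ∣ Nat.card G ↔ p ∈ V)) ∧
    ∀ p q : ℕ, p.Prime → q.Prime → p ≠ q → (p * q ∈ Spec G ↔ (p, q) ∈ E ∨ (q, p) ∈ E)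

variable {G H : Type*} [Group G] [Group H]

theorem HasPG.samePG {V : List ℕ} {E : List (ℕ × ℕ)} (h : HasPG G V E) (h' : HasPG H V E) : SamePG G H :=
  ⟨fun p hp => (h.1 p hp).trans (h'.1 p hp).symm,
    fun p q hp hq hpq => (h.2 p q hp hq hpq).trans (h'.2 p q hp hq hpq).symm⟩

theorem HasPG.of_samePG {V : List ℕ} {E : List (ℕ × ℕ)} (h : HasPG G V E) (h' : SamePG G H) : HasPG H V E :=
  ⟨fun p hp => (h'.1 p hp).symm.trans (h.1 p hp),
    fun p q hp hq hpq => (h'.2 p q hp hq hpq).symm.trans (h.2 p q hp hq hpq)⟩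

theorem prime_dvd_iff_mem {o k : ℕ} {V : List ℕ} (hV : ∀ p ∈ V, p.Prime ∧ p ∣ o) (hk : o ∣ V.prod ^ k) {p : ℕ}
    (hp : p.Prime) : p ∣ o ↔ p ∈ V := by
  refine ⟨fun h => ?_, fun h => (hV p h).2⟩
  obtain ⟨a, ha, h1⟩ := (Prime.dvd_prod_iff hp.prime).1 (hp.dvd_of_dvd_pow (h.trans hk))
  rwa [(Nat.prime_dvd_prime_iff_eq hp (hV a ha).1).1 h1]

theorem hasPG_of {o k : ℕ} (ho : Nat.card G = o) {V : List ℕ} (hV : ∀ p ∈ V, p.Prime ∧ p ∣ o)
    (hk : o ∣ V.prod ^ k) {E N : List (ℕ × ℕ)} (hE : ∀ x ∈ E, x.1 * x.2 ∈ Spec G) (hN : ∀ x ∈ N, x.1 * x.2 ∉ Spec G)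
    (hc : ∀ p ∈ V, ∀ q ∈ V, p ≠ q → ((p, q) ∈ E ∨ (q, p) ∈ E) ∨ (p, q) ∈ N ∨ (q, p) ∈ N) : HasPG G V E := by
  refine ⟨fun p hp => ho ▸ prime_dvd_iff_mem hV hk hp, fun p q hp hq hpq => ⟨fun h => ?_, ?_⟩⟩
  · have h1 := ho ▸ dvd_card_of_mem_spec h
    refine (hc p ((prime_dvd_iff_mem hV hk hp).1 (dvd_of_mul_right_dvd h1)) q
      ((prime_dvd_iff_mem hV hk hq).1 (dvd_of_mul_left_dvd h1)) hpq).resolve_right ?_
    rintro (h2 | h2)
    · exact hN _ h2 h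
    · exact hN _ h2 (mul_comm p q ▸ h)
  · rintro (h | h)
    · exact hE _ h
    · exact mul_comm q p ▸ hE _ h

/-- A non-edge of the prime graph from the centraliser of an element generating a Sylow subgroup. -/
theorem not_mem_spec_of_cent {L K : Subgroup G} {o m r s : ℕ} (ho : Nat.card L = o) (h0 : o ≠ 0) (hr : r.Prime)
    (hs : s.Prime) (hrs : r ≠ s) (h2 : ¬ r ^ 2 ∣ o) {x : G} (hx : x ∈ L) (hxo : orderOf x = r)
    (hK : ∀ y ∈ L, y * x = x * y → y ∈ K) (hm : Nat.card K = m) (hsm : ¬ s ∣ m) : r * s ∉ Spec L := by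
  have : Finite L := Nat.finite_of_card_ne_zero (ho ▸ h0)
  intro h
  obtain ⟨a, b, ha, hb, hab⟩ := (exists_orderOf_mul_iff ((Nat.coprime_primes hr hs).2 hrs)).1 h
  obtain ⟨c, hc⟩ := exists_conj_zpowers_eq hr (ho ▸ h2) ha (b := ⟨x, hx⟩) ((Subgroup.orderOf_mk x hx).trans hxo)
  obtain ⟨k, hk⟩ := hc
  have h3 : Commute (c⁻¹ * b * c) (c⁻¹ * a * c) := by
    simpa using hab.symm.map (MulAut.conj c⁻¹)
  have h4 : Commute (c⁻¹ * b * c) ⟨x, hx⟩ := hk ▸ h3.zpow_right k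
  have h5 := hK _ (c⁻¹ * b * c).2 (congrArg Subtype.val h4)
  have h6 : orderOf (c⁻¹ * b * c) = s := by
    rw [← hb]; simpa using (MulAut.conj c⁻¹).orderOf_eq b
  apply hsm
  rw [← hm, ← h6, ← Subgroup.orderOf_coe, ← Subgroup.orderOf_mk _ h5]
  exact orderOf_dvd_natCard _

end CL.Comp

namespace CL.PG

open CL.Perm CL.Comp

variable {G X : Type*} [Group G] [MulAction G X] {e : ℕ → X} {gs : List G} {P : Par} {ns : List Net}
  {D : List (ℕ × List ℕ)} {chk : List (List ℕ × List ℕ) → Bool}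

theorem Ctx.orderOf_eq (c : Ctx P e gs ns D chk) {w : List ℕ} {n : ℕ} {ps : List (ℕ × ℕ)} (hn : 0 < n)
    (h1 : chk [(powW w n, [])] = true) (h2 : allL (fun p => movB P.n P.N ns (powW w (n / p.1)) p.2) ps = true)
    (h3 : ∀ p < n + 1, p.Prime → p ∣ n → p ∈ ps.map Prod.fst) : orderOf (wordG gs w) = n := by
  refine orderOf_eq_of_pow_and_pow_div_prime hn (by rw [← wordG_powW, c.eq h1, wordG_nil]) fun p hp hd => ?_
  obtain ⟨x, hx, rfl⟩ := List.mem_map.1 (h3 p (Nat.lt_succ_of_le (Nat.le_of_dvd hn hd)) hp hd)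
  rw [← wordG_powW]
  exact c.ne_one (allL_spec h2 x hx)

theorem mem_spec_subW {l : List (List ℕ)} {w : List ℕ} {n : ℕ} (h : wordG gs w ∈ subW gs l)
    (ho : orderOf (wordG gs w) = n) : n ∈ Spec (subW gs l) := ⟨⟨_, h⟩, (Subgroup.orderOf_mk _ _).trans ho⟩

theorem not_mem_spec_subW {l lK : List (List ℕ)} {w : List ℕ} {o m r s : ℕ} (ho : Nat.card (subW gs l) = o)
    (hx : wordG gs w ∈ subW gs l) (hxo : orderOf (wordG gs w) = r)
    (hK : subW gs l ⊓ Subgroup.centralizer (subW gs [w] : Set G) = subW gs lK) (hm : Nat.card (subW gs lK) = m)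
    (h : o ≠ 0 ∧ r.Prime ∧ s.Prime ∧ r ≠ s ∧ ¬ r ^ 2 ∣ o ∧ ¬ s ∣ m) : r * s ∉ Spec (subW gs l) :=
  not_mem_spec_of_cent ho h.1 h.2.1 h.2.2.1 h.2.2.2.1 h.2.2.2.2.1 hx hxo
    (fun y hy e => hK ▸ ⟨hy, (centralizer_subW gs [w] y).2 (by simpa using e)⟩) hm h.2.2.2.2.2

end CL.PG
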