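/-
The prime graph of PSp6(3).
Generated by tools/pg.
-/
import Cfsg.Agent.Comp.PGSpec
import Cfsg.Agent.Spor.StdPS63
import Cfsg.Agent.Spor.PGCtx

set_option autoImplicit false
set_option maxRecDepth 200000
set_option Elab.async false
set_option linter.unusedVariables false

namespace CL.Comp.PS63
open CL.PG

noncomputable def xa75 : Net := (.cons 192 (nat_lit 0xdcc6dab84dea6223cd95a49d47a160e408ae56681b0648)
 (.cons 96 (nat_lit 0xb4a84215bcebfeda5bae6cdb0000000000000000000000001c0b25d110ee8e72cddcdb7b)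
 (.cons 48 (nat_lit 0xd0468d780000000000000027b689a6967000000000000e9fa44b9763c000000000000616edb3e4838)
 (.cons 24 (nat_lit 0x7479e50000002b30610000005178ea000000a798a00000003234d1000000353b26000000016d14000000119c37)
 (.cons 12 (nat_lit 0xb280004190004c9000eb80004a8000d7a00081c000f170002ca000974000592000f3800090e0000ba00080500091a)
 (.cons 6 (nat_lit 0x1400201403200c03400403801600e00000002003402001402400c01500000c00400602800201c02c03402c02703003c)
 (.cons 3 (nat_lit 0x41400c71420040c11810071031020070061801450c41030040830c20010870851041c70001c41c41c2101084105103)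
 (.cons 1 (nat_lit 0x1000200000240000000001000001000000000008000000040001000000008008000040000040000040008009000200)
 (.cons 1 (nat_lit 0x2482490410482090400012410082012000400010010412490002082010012090402490002490080482010092010400)
 (.cons 1 (nat_lit 0x9040001008040041040241001200240001040040040008200200048000041200208208048008040009209041201008)
 (.cons 3 (nat_lit 0x100102004082000002104106000000080000080000180004080000080104006000002006180000000100004082)
 (.cons 6 (nat_lit 0x1400002403200c02402c01800000603c00002002003002000401c00002000c02400c00201801200c00002c002030014)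
 (.cons 12 (nat_lit 0x26a000d8400082400005c0000bc00058e0002ac0003540009c2000a58000582000340000e8c0005e800013c000d2c)
 (.cons 24 (nat_lit 0x7461e00000002368e2000000534144000000e219e0000000a194a000000035312a00000090ea40000000b18d00)
 (.cons 48 (nat_lit 0x4d18664a3880000000000000bb52b1c287e000000000000f9f267f27cb000000000000024ef5f3cca00)
 (.cons 96 (nat_lit 0xb4b0c185a852f013328285f8000000000000000000000000602a38505de62e708f453a5e)
 (.cons 192 (nat_lit 0xdcc41ba6157ef047cd510d14c50402c188ae76338928ec)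
 .nil)))))))))))))))))
noncomputable def xa76 : Net := (.cons 192 (nat_lit 0xa728bea47219728e268d1b6eacf160dc8bdb28973b217f0e)
 (.cons 96 (nat_lit 0x7c77dfa58e45eee80f05bd440000000000000000000000004c2cb4004b958cfadbaf4d2c)
 (.cons 48 (nat_lit 0xd51adf70727a00000000000026a5ff178036000000000000ac927ffb588e000000000000a83341491af1)
 (.cons 24 (nat_lit 0xf362af00000072259a00000021ed340000007322ea0000000622e300000080ec9200000011034d000000368ec4)
 (.cons 12 (nat_lit 0xcbe00086c000d0200074c000e10000c0b000f50000279000116000bba000615000ee0000f87000a0d00023c000171)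
 (.cons 6 (nat_lit 0xd00e00703f00802a01203602001001e02f02200c01e02a01402f01f00102d02f00d01800803b01c00c01702e026023)
 (.cons 3 (nat_lit 0x471011470810050040860821821440850860c41c01800021800851870470811421850061071011c5144141085140006)
 (.cons 1 (nat_lit 0x8009000049040200040200008001000201008200201040000208000048241000000001201201009208248200008200)
 (.cons 1 (nat_lit 0x10492402492082402092402092482410492012492402090082410080490482082480012412402412490490402412482)
 (.cons 1 (nat_lit 0x209048041201001040248041040200048048200249009049048208208209208001208200201209008200049248000201)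
 (.cons 3 (nat_lit 0x84002082000080100000000180084000082080100086000182004102006000004000080104106100180006086004080)
 (.cons 6 (nat_lit 0x802400602800e02c02002001402e03002000800003201c02802600801001800801e00c03802402600a01a006012)
 (.cons 12 (nat_lit 0x7ba000c84000fce00002a000e68000140000d0000067a000b78000964000234000d36000f8200031a0000d4000c1c)
 (.cons 24 (nat_lit 0x8a42f00000006f39a00000008361dc000000ac80ce00000062ba44000000c152fe0000007892400000009b1148)
 (.cons 48 (nat_lit 0x64569dc5b49000000000000081ad503331f0000000000000f4ae89ccfa080000000000001973001b1218)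
 (.cons 96 (nat_lit 0xfb7ffe41403295f92808853c000000000000000000000000046cb26ba40c12f5022d92da)
 (.cons 192 (nat_lit 0xa728b33e1771d2c12f81dcf191ed3f1e01487a00edc62c08)
 .nil)))))))))))))))))
noncomputable def xa77 : Net := (.cons 192 (nat_lit 0x3494260079ce2af30c6ba864e95f4bbbd01daaf5519da9a2)
 (.cons 96 (nat_lit 0x7f0dd64d2c7c383aa3c1241200000000000000000000000000d05a21c5a8d02847662831)
 (.cons 48 (nat_lit 0x6b4f4e127fe90000000000004855721b713f000000000000d5832835120a0000000000006e43f7085112)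
 (.cons 24 (nat_lit 0xdf94af0000006d2ef500000070ad4e000000dc7f7a0000001232f60000004f1e85000000fd19a50000001c473a)
 (.cons 12 (nat_lit 0xbd5000ce6000b980005ee000c96000d470000e3000e6e00016b0008a20005b900087900087b000246000b97000502)
 (.cons 6 (nat_lit 0x3e01c02c01402103900d02500c00102b00101201203400a01703000800c02601303001e00b00903602d00d00b00f031)
 (.cons 3 (nat_lit 0x60c50400871851c20811801430820c01c41440c70000c40060c60420851801810841821431861c61420401051c5185)
 (.cons 1 (nat_lit 0x208200001000200040241008200040000001001008000208040200048008208008041200000048200008200000201240)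
 (.cons 1 (nat_lit 0x412400092090482092482492400090402012402092410412490490490090410092482480402490402490400400402492)
 (.cons 1 (nat_lit 0x1041008049001009049040000248041201201048201009000008201009049008009001209040208201201201241201)
 (.cons 3 (nat_lit 0x100002002080004000080080000182102006184102102084104006100104104102006000184104106000002082004002)
 (.cons 6 (nat_lit 0x1a01203600200800000000001802802001602e01001000800601200800c03802002002403800800c01003a01003e016)
 (.cons 12 (nat_lit 0x448000eac000252000450000090000f68000a6c000e400001e8000000000b600004d200038a000a7e0000fe000196)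
 (.cons 24 (nat_lit 0xb49c0c00000059bed6000000b01a7000000078c3d0000000900322000000ed7ac00000002a3cec00000091355a)
 (.cons 48 (nat_lit 0x3dc6970b37b0000000000000f8c7556ad5e0000000000000d60379daaf560000000000000206725ae4cc)
 (.cons 96 (nat_lit 0x6b99d6d7b6441fe369d1ff0e000000000000000000000000cab8812dad4e4c1c9ade396a)
 (.cons 192 (nat_lit 0x34942fe621b3cad8fd7e8faf96891781d4ee8851e78e2a44)
 .nil)))))))))))))))))
noncomputable def xa78 : Net := (.cons 192 (nat_lit 0x7b36dd6441ddf621625d150d40f1086504a27ac535e2b580)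
 (.cons 96 (nat_lit 0x37c2a9dadd0454152cda17da000000000000000000000000f7aa68eaca96b62f56dcf6aa)
 (.cons 48 (nat_lit 0x1043f9cfbac00000000000001dcaf63649bb000000000000bc44e783ea8f000000000000159291816ac4)
 (.cons 24 (nat_lit 0x3960720000007aea6f000000800c87000000657791000000179348000000d09b74000000e75ec4000000503f0f)
 (.cons 12 (nat_lit 0x47c0004100004d8000490000505000169000d4e000cc60008bf000a08000440000f07000f95000b8a000ebc000a4e)
 (.cons 6 (nat_lit 0x2403103103d02802801700001303702403c02302102f00c01000003400302801d02c03e01903203b01002102c028020)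
 (.cons 3 (nat_lit 0xc50801450c11070011851441c01010421430810401800030c01831400020421c3042083180143046100182107144081)
 (.cons 1 (nat_lit 0x200040208001001008208048200001200200000001008200048041208200048200240208041201001000009008040000)
 (.cons 1 (nat_lit 0x490480412482412012412492412092410482402012410402092482490412090412480410482482002412092410080410)
 (.cons 1 (nat_lit 0x8241008009048208241040208248000049040041049001240009248008040241248240009201249000248200241001)
 (.cons 3 (nat_lit 0x104002006004006080100100102000004184000004086000080002000180002080000084004000002100002186102104)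
 (.cons 6 (nat_lit 0x2003800001a01403803c00403001802201603203400800401203c02403c00000001003a02400003000400c00802a00c)
 (.cons 12 (nat_lit 0x6520002b40002440003600003900007ca000ecc000df6000e9c0006a8000e780001720004d00002020002f400069c)
 (.cons 24 (nat_lit 0x2ab0e8000000d526a00000008742000000001c691200000040bb0c000000035900000000e310440000009e0236)
 (.cons 48 (nat_lit 0x47536f7a40000000000000005fd7812d1dc00000000000069c4c3a850c000000000000015deae019120)
 (.cons 96 (nat_lit 0x17f06c5cbfc369d4226d2522000000000000000000000000732b4c0e42a39657c9b1fa2c)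
 (.cons 192 (nat_lit 0x7b36d460c6e326791ac218b43d5963894dc9945ccdf0b274)
 .nil)))))))))))))))))
noncomputable def xa79 : Net := (.cons 192 (nat_lit 0x79d7d5a358f18ed31a5d4e23e406b4254e89d812a9da4a7)
 (.cons 96 (nat_lit 0x8648ba55186d5267fc25574b000000000000000000000000745f996081071d96c9cb55b9)
 (.cons 48 (nat_lit 0x7122319a15340000000000005ef6a0ecaa0b000000000000bdfef00ecc94000000000000796422b34b2d)
 (.cons 24 (nat_lit 0x9a747f00000072c33f000000ab901e0000002d9b54000000bdfbb3000000b27be4000000ee948b0000002710b9)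
 (.cons 12 (nat_lit 0xb33000eaf000fd90005ea00037c00036c000c69000a3500055900092f00062d0009f3000bff0005e80003a0000c3b)
 (.cons 6 (nat_lit 0x602602601203303501701f01201702e02803901b02100e02d00403803d02203d02e019002022006008035030028025)
 (.cons 3 (nat_lit 0x1c31430400c10000c61871c40441c61001c61441451421061430871421831821011851830011c51401871031061c6007)
 (.cons 1 (nat_lit 0x40000240000008201000041008200001001041001041201201000040049041000208008008009048200000040201200)
 (.cons 1 (nat_lit 0x490400492400010412090082010490082402482012482482402400492492482410412492012012492412082480492410)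
 (.cons 1 (nat_lit 0x240240008040209208001200240009048241040049209240240200041209049041209208209208048000200208008241)
 (.cons 3 (nat_lit 0x100000000100006002106004000104000000184004084104104080082080082084104080004082004100100002102006)
 (.cons 6 (nat_lit 0x1800603001603601a03603c00200e03001e03002e02002002402401a01800802c03202000800003002800003e010032)
 (.cons 12 (nat_lit 0x85000019800054c0005f0000f08000600000e080001540009c000024e000228000cec000d9800096c000850000dc0)
 (.cons 24 (nat_lit 0xffcf20000000f29332000000a6cf5a00000069bb000000003003020000004859e400000064348a000000947258)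
 (.cons 48 (nat_lit 0x75ef4a1e0aca00000000000072e9c216d104000000000000b1f7e1610da8000000000000a3e42e9e6e24)
 (.cons 96 (nat_lit 0x825c85e39878e96d41016926000000000000000000000000045f984a291e61ba1a03a8a8)
 (.cons 192 (nat_lit 0x79d7b49b084721495c792385a5f42be1996c0fae76c7790)
 .nil)))))))))))))))))
noncomputable def xa80 : Net := (.cons 192 (nat_lit 0xc8d27a486d9a3c4e3ccee1bb71964d8e496a7a14c7cb4bf0)
 (.cons 96 (nat_lit 0x7fdf393c5774482966bde717000000000000000000000000b4763a150030733f092a1dcf)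
 (.cons 48 (nat_lit 0x94dacf4a46f0000000000004e3ef248a9b3000000000000d63e87f77911000000000000fa858827307f)
 (.cons 24 (nat_lit 0xb71324000000d015d200000065414c00000069acb30000007c6f020000002c447d000000f10f9d000000ff999b)
 (.cons 12 (nat_lit 0x809000572000d2f000b13000ebf00034600024c000d7200055b000a80000ef4000ea9000dda0008370002b20000d3)
 (.cons 6 (nat_lit 0xc02800c03403801d03e00102000702d00e03203803702302403300903102301a01801a03800703a01703800100e022)
 (.cons 3 (nat_lit 0x1c00061400070c31801c11830811c31c01421471860000060010401460841c40c21831010000850850821c31c60c11c1)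
 (.cons 1 (nat_lit 0x240008001041048008001001008009008241208008240040200240201200001040009200000200008048000200040001)
 (.cons 1 (nat_lit 0x490492002082090412002092412092410492410092482492410492482482412090092400000410412092090482090482)
 (.cons 1 (nat_lit 0x248208209008208248241041048208208001201001200241009040048200048048041000048009208048209208209008)
 (.cons 3 (nat_lit 0x80080180100000004182082182100002100006080102000000084080086006102180080184082006080006004000)
 (.cons 6 (nat_lit 0x1800c02000c01202e00003803002c02c02802001003400200202600e03403c01800c01e01201e03802002602c008012)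
 (.cons 12 (nat_lit 0xc10000c18000e000001000002580003620007d6000c9000014a000a92000c0c0007180000d0000590000cc4000674)
 (.cons 24 (nat_lit 0x9d4d4e000000c4b7d000000023eba0000000e8de080000008a3902000000b69ad20000006906dc000000dc7ab2)
 (.cons 48 (nat_lit 0xe28da73622840000000000000e5eb04e4886000000000000740239d3fa00000000000000dca904c5608a)
 (.cons 96 (nat_lit 0x374d47ebef4aa63b9ba1351400000000000000000000000093733ed86aa3443d2f463120)
 (.cons 192 (nat_lit 0xc8d27b1b5f3b08f3cac41c1972e4ed524bb4e8972bf87ac4)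
 .nil)))))))))))))))))
noncomputable def xa81 : Net := (.cons 192 (nat_lit 0x4ae06936591f1b75ee8d5f8f158f68006e684b273744ff37)
 (.cons 96 (nat_lit 0x7a15f2a109c9fa00c161fb6f000000000000000000000000c9a8cbf385ff67e5ac5ce3c9)
 (.cons 48 (nat_lit 0x4ad66f499dd000000000000f5e54645dc29000000000000c50c0fffd1420000000000007ca367bca71b)
 (.cons 24 (nat_lit 0x21654f00000082007c0000005f48500000000ce34a0000006e66d80000003c7a0b000000085351000000bad756)
 (.cons 12 (nat_lit 0x7bc0009560001b7000cca0004ae000bf90003bd0002ab00058a0008f000015d0007b500017a000c64000925000d8e)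
 (.cons 6 (nat_lit 0x1602c01202b03c02203000402200501303102402201b02a00703801b01103602802f02000b02a03402000d007012008)
 (.cons 3 (nat_lit 0x851c71861801811851c60c20401871070051440020c41c40460450021801070400810050031440010071850c1044101)
 (.cons 1 (nat_lit 0x40040201048208008001001048000240048008001001040200041008000001000008041040048041201048200009000)
 (.cons 1 (nat_lit 0x90080482092490090482402090490482492490012092082480082010080092090092492482490482412490410412402)
 (.cons 1 (nat_lit 0x8200040248209201209041008048201208048040209048209009009208008001048201248209200008048041249008)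
 (.cons 3 (nat_lit 0x84100080004002104004084100004000102000004004100080006000080106006086100000104000000084006000004)
 (.cons 6 (nat_lit 0x401601c02c01c03203000000601e01401401e02000803001802c03001800801c00003202602400000602001c014018)
 (.cons 12 (nat_lit 0x7980004900006aa0005500009f6000512000320000c1c0009060001b00004c20004660000c8000c40000a8000009a)
 (.cons 24 (nat_lit 0xdf490000000d39386000000190d340000004d91260000005e6d500000004ae3c000000073e04200000008984a)
 (.cons 48 (nat_lit 0x7c0d9e03a560000000000000326d63252058000000000000e9a8ca82fca0000000000000cbae54f8a720)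
 (.cons 96 (nat_lit 0x7af594e16728bb076351ea80000000000000000000000000eca351b5e742d7859ee08d70)
 (.cons 192 (nat_lit 0x4ae06b02c925786bf5634a350180a6170ea4dab54705a2c2)
 .nil)))))))))))))))))
noncomputable def xa82 : Net := (.cons 192 (nat_lit 0x3494260079ce2af30c6ba864e95f4bbbd01daaf5519da9a2)
 (.cons 96 (nat_lit 0x7f0dd64d2c7c383aa3c1241200000000000000000000000000d05a21c5a8d02847662831)
 (.cons 48 (nat_lit 0x6b4f4e127fe90000000000004855721b713f000000000000d5832835120a0000000000006e43f7085112)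
 (.cons 24 (nat_lit 0xdf94af0000006d2ef500000070ad4e000000dc7f7a0000001232f60000004f1e85000000fd19a50000001c473a)
 (.cons 12 (nat_lit 0xbd5000ce6000b980005ee000c96000d470000e3000e6e00016b0008a20005b900087900087b000246000b97000502)
 (.cons 6 (nat_lit 0x3e01c02c01402103900d02500c00102b00101201203400a01703000800c02601303001e00b00903602d00d00b00f031)
 (.cons 3 (nat_lit 0x60c50400871851c20811801430820c01c41440c70000c40060c60420851801810841821431861c61420401051c5185)
 (.cons 1 (nat_lit 0x208200001000200040241008200040000001001008000208040200048008208008041200000048200008200000201240)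
 (.cons 1 (nat_lit 0x412400092090482092482492400090402012402092410412490490490090410092482480402490402490400400402492)
 (.cons 1 (nat_lit 0x1041008049001009049040000248041201201048201009000008201009049008009001209040208201201201241201)
 (.cons 3 (nat_lit 0x100002002080004000080080000182102006184102102084104006100104104102006000184104106000002082004002)
 (.cons 6 (nat_lit 0x1a01203600200800000000001802802001602e01001000800601200800c03802002002403800800c01003a01003e016)
 (.cons 12 (nat_lit 0x448000eac000252000450000090000f68000a6c000e400001e8000000000b600004d200038a000a7e0000fe000196)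
 (.cons 24 (nat_lit 0xb49c0c00000059bed6000000b01a7000000078c3d0000000900322000000ed7ac00000002a3cec00000091355a)
 (.cons 48 (nat_lit 0x3dc6970b37b0000000000000f8c7556ad5e0000000000000d60379daaf560000000000000206725ae4cc)
 (.cons 96 (nat_lit 0x6b99d6d7b6441fe369d1ff0e000000000000000000000000cab8812dad4e4c1c9ade396a)
 (.cons 192 (nat_lit 0x34942fe621b3cad8fd7e8faf96891781d4ee8851e78e2a44)
 .nil)))))))))))))))))
noncomputable def xa83 : Net := (.cons 192 (nat_lit 0x1343243539f5dd814d1cbee565ef5d0e3a50ca872566b828)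
 (.cons 96 (nat_lit 0x4880dfc63393fdce98422a6000000000000000000000000000044dc9b5afe314561501a6)
 (.cons 48 (nat_lit 0x22e5eebc2800000000000032ad9edfd2d400000000000092ab7d4c1d0400000000000024fe8dce0f95)
 (.cons 24 (nat_lit 0xd4adb000000055adfc00000049fc1400000041ce3e0000001cc8d800000013cc7600000073a9ba0000006812f3)
 (.cons 12 (nat_lit 0x6be000562000f4e000b7a000651000fd1000e59000874000cc00000e800089900001b0007fc00076100036d000d99)
 (.cons 6 (nat_lit 0x1e01c00f01a03601d02a00801203a00202c01a02600602400202801902b02903a013033023023030034026014007030)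
 (.cons 3 (nat_lit 0x1060860431841031021030c61060821c61011801800c21871000c71811861461460c0007145043044006001040081004)
 (.cons 1 (nat_lit 0x40041008200201048008048000040000041000200201000049209008200041001200000001200008001000008048048)
 (.cons 1 (nat_lit 0x80092092410492492410490090490080082400480412082092492090492482082400002482482090492400092090092)
 (.cons 1 (nat_lit 0x248241040201001209200209200240001048208048041200249049241008249000040009049201008048048009201000)
 (.cons 3 (nat_lit 0x80186004104100000084106000100000004002180002184100100100102006106000004080102000004000004000000)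
 (.cons 6 (nat_lit 0x400c00001a00801a01400803003400400002002202401200002802201400803a00802803801a00202001202601c004)
 (.cons 12 (nat_lit 0xe72000562000350000b7a000650000ec200053c0006b0000cc00000e8000408000ec0000598000c9c000b5c0007f8)
 (.cons 24 (nat_lit 0xd4adb000000055bebc0000007e11bc00000005ad580000000cc8d8000000138c720000008fd644000000a04e40)
 (.cons 48 (nat_lit 0x22e5ecbc2800000000000032ad9c9fdbd000000000000092ab7d4c1d040000000000005f28d6918ba0)
 (.cons 96 (nat_lit 0x4880dfc63393fdce98422a6000000000000000000000000000044dc9b4afe314561501a6)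
 (.cons 192 (nat_lit 0x1343247539f55d814d1cbee567ef5d0e3050ca872566b828)
 .nil)))))))))))))))))
noncomputable def xws : List (List ℕ) :=
  [W (nat_lit 0x2c09821034120140e0140203004),
  W (nat_lit 0x250681e04c0d0ac0d01c060500101804),
  W (nat_lit 0xac2509c2103412010060180200825),
  W (nat_lit 0x2b09c230342101c0304c020181c),
  W (nat_lit 0x2c0a41a07413034110140e0140102005),
  W (nat_lit 0x6c220382201c0501c0101411),
  W (nat_lit 0x2b0a01a03420010050380105803),
  W (nat_lit 0xac2509c2103412010060180200825),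
  W (nat_lit 0xa5294a5294a5294a5)]
noncomputable def xns : List Net := [CL.Std.PS63.a0, CL.Std.PS63.a1, CL.Std.PS63.a2, CL.Std.PS63.a3, CL.Std.PS63.a4, CL.Std.PS63.a5, CL.Std.PS63.a6, CL.Std.PS63.a7, CL.Std.PS63.a8, CL.Std.PS63.a9, CL.Std.PS63.a10, CL.Std.PS63.a11, CL.Std.PS63.a12, CL.Std.PS63.a13, CL.Std.PS63.a14, CL.Std.PS63.a15, CL.Std.PS63.a16, CL.Std.PS63.a17, CL.Std.PS63.a18, CL.Std.PS63.a19, CL.Std.PS63.a20, CL.Std.PS63.a21, CL.Std.PS63.a22, CL.Std.PS63.a23, CL.Std.PS63.a24, CL.Std.PS63.a25, CL.Std.PS63.a26, CL.Std.PS63.a27, CL.Std.PS63.a28, CL.Std.PS63.a29, CL.Std.PS63.a30, CL.Std.PS63.a31, CL.Std.PS63.a32, CL.Std.PS63.a33, CL.Std.PS63.a34, CL.Std.PS63.a35, CL.Std.PS63.a36, CL.Std.PS63.a37, CL.Std.PS63.a38, CL.Std.PS63.a39, CL.Std.PS63.a40, CL.Std.PS63.a41, CL.Std.PS63.a42, CL.Std.PS63.a43, CL.Std.PS63.a44, CL.Std.PS63.a45, CL.Std.PS63.a46, CL.Std.PS63.a47, CL.Std.PS63.a48, CL.Std.PS63.a49, CL.Std.PS63.a50, CL.Std.PS63.a51, CL.Std.PS63.a52, CL.Std.PS63.a53, CL.Std.PS63.a54,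 CL.Std.PS63.a55, CL.Std.PS63.a56, CL.Std.PS63.a57, CL.Std.PS63.a58, CL.Std.PS63.a59, CL.Std.PS63.a60, CL.Std.PS63.a61, CL.Std.PS63.a62, CL.Std.PS63.a63, CL.Std.PS63.a64, CL.Std.PS63.a65, CL.Std.PS63.a66, CL.Std.PS63.a67, CL.Std.PS63.a68, CL.Std.PS63.a69, CL.Std.PS63.a70, CL.Std.PS63.a71, CL.Std.PS63.a72, CL.Std.PS63.a73, CL.Std.PS63.a74, xa75, xa76, xa77, xa78, xa79, xa80, xa81, xa82, xa83]
noncomputable def xD : List (ℕ × List ℕ) := app CL.Std.PS63.D (mkDefs xws 75)
noncomputable def xchk : List (List ℕ × List ℕ) → Bool := CL.Std.PS63.P.relsB xns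
noncomputable def xpg_K13_ps : List PcG :=
  [⟨[158], 13, [], []⟩]
noncomputable def xpg_K13_v0 : Lev :=
  ⟨0, 13, sg (W (nat_lit 0x27c9f27c9f27c9f27c9f27c9f27c9f)), [], 78, 0⟩
noncomputable def xpg_K13_vs1 : List Lev :=
  []
noncomputable def xpg_K13_vs : List Lev :=
  xpg_K13_v0 :: xpg_K13_vs1
noncomputable def xpg_c13_F : List (List ℕ × ℕ × ℕ) :=
  []
noncomputable def xpg_c13G_v0 : Lev :=
  ⟨0, 364, sg (W (nat_lit 0x10040300403004030040300403004030040300401)), [[4], [3]], 0, 1⟩
noncomputable def xpg_c13G_v1 : Lev :=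
  ⟨35, 243, sg (W (nat_lit 0x1404010050100501005010050100501005)), [[136], [138]], 66, 2⟩
noncomputable def xpg_c13G_v2 : Lev :=
  ⟨2, 80, sg (W (nat_lit 0x892248b2248922c8922c8922c8922c89)), [[140], [142]], 68, 2⟩
noncomputable def xpg_c13G_v3 : Lev :=
  ⟨40, 27, sg (W (nat_lit 0x8d2348d23c8d23c8d23c8d23c8d)), [[144], [146]], 70, 2⟩
noncomputable def xpg_c13G_v4 : Lev :=
  ⟨5, 8, sg (W (nat_lit 0x932449124c91)), [[148]], 72, 1⟩
noncomputable def xpg_c13G_v5 : Lev :=
  ⟨121, 3, sg (W (nat_lit 0x25495)), [], 73, 0⟩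
noncomputable def xpg_c13G_vs6 : List Lev :=
  []
noncomputable def xpg_c13G_vs5 : List Lev :=
  xpg_c13G_v5 :: xpg_c13G_vs6
noncomputable def xpg_c13G_vs4 : List Lev :=
  xpg_c13G_v4 :: xpg_c13G_vs5
noncomputable def xpg_c13G_vs3 : List Lev :=
  xpg_c13G_v3 :: xpg_c13G_vs4
noncomputable def xpg_c13G_vs2 : List Lev :=
  xpg_c13G_v2 :: xpg_c13G_vs3
noncomputable def xpg_c13G_vs1 : List Lev :=
  xpg_c13G_v1 :: xpg_c13G_vs2
noncomputable def xpg_c13G_vs : List Lev :=
  xpg_c13G_v0 :: xpg_c13G_vs1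
noncomputable def xpg_c13_x : List (ℕ × List ℕ) :=
  [((nat_lit 0x3f00000000000000007), [(nat_lit 0xfffffffffffffffffffffffffffffffffffffffffffffffffffffffffffffffffffffffffffffffffffffffffff)]),
  ((nat_lit 0x800000000000000006), [(nat_lit 0xfffffffffffffc0000007ffffffffffffe0000003fffffffffffff0000001fffffffffffff8000000ffffffe000),
   (nat_lit 0x3ffffff80000000000001ffffffc0000000000000ffffffe00000000000007ffffff0000001ffe)]),
  ((nat_lit 0), [(nat_lit 0x2db6db680000000000001b6db6d800000000000006db6db600000000000005b6db6d0000001b6c),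
   (nat_lit 0x4924924924924800000012492492492492000000249249249249240000000924924924924900000002092492000)]),
  ((nat_lit 0), [(nat_lit 0x1000000000)]),
  ((nat_lit 0), [(nat_lit 0x180c06000000000000000000000000000060),
   (nat_lit 0x4020100000000000000010080400000000000000000000000000000000000804000000000000)]),
  ((nat_lit 0), [(nat_lit 0x20000000000)])]
noncomputable def xpg_c13_G : Gl :=
  ⟨CL.Std.PS63.P, xns, (app xD []), (diag [[156]]), [], [], memM (app xD []) [[158]], true⟩
noncomputable def xpg_c13_s : St :=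
  ⟨(mkS CL.Std.PS63.P.n xpg_c13G_vs xpg_c13_x), [[0], [2]], [], mapL Prod.snd xpg_c13_F, memM (app xD []) [[158]], []⟩
noncomputable def xzt17 : ST :=
  (.orb 0 (.br 0 [W (nat_lit 0x280a0280a0)] (W (nat_lit 0x4010040100401004010040100401)) [(1, W (nat_lit 0x80223c03)), (2, W (nat_lit 0x40123c06)), (3, W (nat_lit 0x223002)), (4, W (nat_lit 0x223c02)), (5, W (nat_lit 0x10048f)), (7, W (nat_lit 0x4010188e)), (8, W (nat_lit 0x100490)), (11, W (nat_lit 0x401)), (12, W (nat_lit 0x222c02)), (13, W (nat_lit 0x200c92)), (14, W (nat_lit 0x889)), (15, W (nat_lit 0x4030188f)), (17, W (nat_lit 0x101802)), (19, W (nat_lit 0x200c8b)), (22, W (nat_lit 0x201001)), (24, W (nat_lit 0x101089)), (25, W (nat_lit 0x40400892)), (27, W (nat_lit 0x200c05)), (30, W (nat_lit 0x4042248f)), (36, W (nat_lit 0x80524405)), (37, W (nat_lit 0x403)), (41, W (nat_lit 0x8022488f)), (45, W (nat_lit 0x200802)), (46, W (nat_lit 0x40124c8a)), (60, W (nat_lit 0x10048b)), (63, W (nat_lit 0x40122491)), (65, W (nat_lit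 0x40100491)), (0, [])] (.cons (.orb 0 (.img [0] 0 (.and 2 0 (.mis 0))))
 (.cons (.orb 1 (.img (W (nat_lit 0x401)) 0 (.img (W (nat_lit 0x200802)) 2 (.dif 1 0 (.mis 0)))))
 (.cons (.orb 1 (.img [0] 1 (.dif 1 0 (.mis 0))))
 (.cons (.img (W (nat_lit 0x802)) 0 (.orb 1 (.and 1 0 (.mis 0))))
 (.cons (.orb 1 (.img (W (nat_lit 0x200802)) 0 (.img (W (nat_lit 0x100401)) 2 (.dif 1 0 (.mis 0)))))
 (.cons (.orb 1 (.img (W (nat_lit 0x100401)) 1 (.dif 1 0 (.mis 0))))
 (.cons (.orb 1 (.img [0] 1 (.dif 1 0 (.mis 0))))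
 (.cons (.img (W (nat_lit 0x100401)) 0 (.orb 0 (.img (W (nat_lit 0x200802)) 0 (.and 2 0 (.mis 0)))))
 (.cons (.orb 1 (.img [0] 1 (.dif 1 0 (.mis 0))))
 (.cons (.img [1] 0 (.orb 1 (.and 1 0 (.mis 0))))
 (.cons (.orb 1 (.img (W (nat_lit 0x401)) 1 (.dif 1 0 (.mis 0))))
 (.cons (.orb 0 (.img [0] 0 (.and 2 0 (.mis 0))))
 (.cons (.orb 1 (.img (W (nat_lit 0x100401)) 1 (.dif 1 0 (.mis 0))))
 (.cons (.orb 1 (.img (W (nat_lit 0x401)) 1 (.dif 1 0 (.mis 0))))
 (.cons (.orb 1 (.img (W (nat_lit 0x401)) 0 (.img (W (nat_lit 0x200802)) 2 (.dif 1 0 (.mis 0)))))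
 (.cons (.orb 1 (.img (W (nat_lit 0x401)) 1 (.dif 1 0 (.mis 0))))
 (.cons (.orb 0 (.img [0] 0 (.and 2 0 (.mis 0))))
 (.cons (.orb 1 (.img (W (nat_lit 0x100401)) 1 (.dif 1 0 (.mis 0))))
 (.cons (.orb 0 (.img [0] 0 (.and 2 0 (.mis 0))))
 (.cons (.orb 1 (.img [1] 0 (.img [0] 2 (.dif 1 0 (.mis 0)))))
 (.cons (.orb 1 (.img [1] 0 (.img (W (nat_lit 0x100401)) 2 (.dif 1 0 (.mis 0)))))
 (.cons (.orb 1 (.img (W (nat_lit 0x401)) 1 (.dif 1 0 (.mis 0))))
 (.cons (.orb 1 (.img (W (nat_lit 0x100401)) 1 (.dif 1 0 (.mis 0))))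
 (.cons (.orb 1 (.img [0] 0 (.img (W (nat_lit 0x200802)) 2 (.dif 1 0 (.mis 0)))))
 (.cons (.orb 1 (.img [0] 1 (.dif 1 0 (.mis 0))))
 (.cons (.orb 0 (.img [0] 0 (.and 2 0 (.mis 0))))
 (.cons (.orb 1 (.img (W (nat_lit 0x100401)) 0 (.img (W (nat_lit 0x200802)) 1 (.and 1 0 (.orb 0 (.and 1 0 (.img (W (nat_lit 0x20080200802)) 5 (.and 1 0 (.img (W (nat_lit 0x8020080200802)) 7 (.and 1 0 (.img [0] 5 (.and 1 0 (.img (W (nat_lit 0x401)) 7 (.and 1 0 (.br 0 [] [] [(151, W (nat_lit 0x524003))] (.cons (.img [1] 14 (.orb 1 (.and 1 0 (.mis 0))))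
 .nil))))))))))))))))
 (.cons (.orb 0 (.orb 1 (.img (W (nat_lit 0x100401)) 0 (.and 2 0 (.img (W (nat_lit 0x200802)) 2 (.and 1 0 (.img [0] 5 (.and 1 0 (.img [1] 7 (.and 1 0 (.img (W (nat_lit 0x401)) 9 (.and 1 0 (.img (W (nat_lit 0x20080200802)) 10 (.and 1 0 (.img (W (nat_lit 0x10040100401)) 13 (.and 1 0 (.br 0 [] [] [(35, [])] (.cons (.orb 0 (.img [0] 0 (.and 1 0 (.img [1] 2 (.and 1 0 (.img (W (nat_lit 0x401)) 4 (.and 1 0 (.br 0 [] [] [(2, [])] (.cons (.orb 0 (.img [0] 0 (.br 0 [] [] [(40, [])] (.cons (.orb 0 (.orb 1 (.img [0] 0 (.and 2 0 (.br 0 [] [] [(5, [])] (.cons (.orb 0 (.img (W (nat_lit 0x401)) 0 (.br 0 [] [] [(121, [])] (.cons .fnd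
 .nil))))
 .nil))))))
 .nil))))
 .nil)))))))))
 .nil))))))))))))))))))
 .nil))))))))))))))))))))))))))))))
noncomputable def xpg_K7_ps : List PcG :=
  [⟨[164], 7, [166], [[166]]⟩,
  ⟨[166], 2, [], []⟩]
noncomputable def xpg_K7_v0 : Lev :=
  ⟨0, 14, sg (W (nat_lit 0xa5294a5294a5294a5294a5294a5294a5)), [], 81, 0⟩
noncomputable def xpg_K7_vs1 : List Lev :=
  []
noncomputable def xpg_K7_vs : List Lev :=
  xpg_K7_v0 :: xpg_K7_vs1
noncomputable def xpg_c7_F : List (List ℕ × ℕ × ℕ) :=
  []
noncomputable def xpg_c7G_v0 : Lev :=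
  ⟨0, 364, sg (W (nat_lit 0x10040300403004030040300403004030040300401)), [[4], [3]], 0, 1⟩
noncomputable def xpg_c7G_v1 : Lev :=
  ⟨35, 243, sg (W (nat_lit 0x1404010050100501005010050100501005)), [[136], [138]], 66, 2⟩
noncomputable def xpg_c7G_v2 : Lev :=
  ⟨2, 80, sg (W (nat_lit 0x892248b2248922c8922c8922c8922c89)), [[140], [142]], 68, 2⟩
noncomputable def xpg_c7G_v3 : Lev :=
  ⟨40, 27, sg (W (nat_lit 0x8d2348d23c8d23c8d23c8d23c8d)), [[144], [146]], 70, 2⟩
noncomputable def xpg_c7G_v4 : Lev :=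
  ⟨5, 8, sg (W (nat_lit 0x932449124c91)), [[148]], 72, 1⟩
noncomputable def xpg_c7G_v5 : Lev :=
  ⟨121, 3, sg (W (nat_lit 0x25495)), [], 73, 0⟩
noncomputable def xpg_c7G_vs6 : List Lev :=
  []
noncomputable def xpg_c7G_vs5 : List Lev :=
  xpg_c7G_v5 :: xpg_c7G_vs6
noncomputable def xpg_c7G_vs4 : List Lev :=
  xpg_c7G_v4 :: xpg_c7G_vs5
noncomputable def xpg_c7G_vs3 : List Lev :=
  xpg_c7G_v3 :: xpg_c7G_vs4
noncomputable def xpg_c7G_vs2 : List Lev :=
  xpg_c7G_v2 :: xpg_c7G_vs3
noncomputable def xpg_c7G_vs1 : List Lev :=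
  xpg_c7G_v1 :: xpg_c7G_vs2
noncomputable def xpg_c7G_vs : List Lev :=
  xpg_c7G_v0 :: xpg_c7G_vs1
noncomputable def xpg_c7_x : List (ℕ × List ℕ) :=
  [((nat_lit 0x7f00000000000000007), [(nat_lit 0xfffffffffffffffffffffffffffffffffffffffffffffffffffffffffffffffffffffffffffffffffffffffffff)]),
  ((nat_lit 0xb00000000000000006), [(nat_lit 0x3ffffff80000000000001ffffffc0000000000000ffffffe00000000000007ffffff0000001ffe),
   (nat_lit 0xfffffffffffffc0000007ffffffffffffe0000003fffffffffffff0000001fffffffffffff8000000ffffffe000)]),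
  ((nat_lit 0), [(nat_lit 0x2db6db680000000000001b6db6d800000000000006db6db600000000000005b6db6d0000001b6c),
   (nat_lit 0x2492493249249000000049249244924924000000124924912492490000000492492649249200000004124924000),
   (nat_lit 0x124924900000000000000492492400000000000009249248000000000000024924920000000492),
   (nat_lit 0x4924924924924800000012492492492492000000249249249249240000000924924924924900000002092492000),
   (nat_lit 0x92492484924924000000249249292492480000000924924a4924920000001249249092492480000008249248000)]),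
  ((nat_lit 0), [(nat_lit 0x249249200000000000001249249000000000000000000000000000000000012492490000000000),
   (nat_lit 0x92492480000000000000924924800000000000000000000000000000000049249240000000000)]),
  ((nat_lit 0), [(nat_lit 0x180c06000000000000000000000000000060)]),
  ((nat_lit 0), [(nat_lit 0x8000000000000000000000)])]
noncomputable def xpg_c7_G : Gl :=
  ⟨CL.Std.PS63.P, xns, (app xD []), (diag [[162]]), [], [], memM (app xD []) [[164]], true⟩
noncomputable def xpg_c7_s : St :=
  ⟨(mkS CL.Std.PS63.P.n xpg_c7G_vs xpg_c7_x), [[0], [2]], [], mapL Prod.snd xpg_c7_F, memM (app xD []) [[164]], []⟩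
noncomputable def xzt33 : ST :=
  (.orb 0 (.br 0 [[165]] (W (nat_lit 0x1004010040100401004010040100401)) [(1, W (nat_lit 0x80223c03)), (3, W (nat_lit 0x223002)), (4, W (nat_lit 0x223c02)), (5, W (nat_lit 0x10048f)), (6, W (nat_lit 0x80224804)), (10, W (nat_lit 0x8022448c)), (11, W (nat_lit 0x401)), (12, W (nat_lit 0x222c02)), (14, W (nat_lit 0x889)), (16, W (nat_lit 0x805)), (17, W (nat_lit 0x101802)), (19, W (nat_lit 0x200c8b)), (20, W (nat_lit 0x892)), (21, W (nat_lit 0x100c06)), (22, W (nat_lit 0x201001)), (23, W (nat_lit 0x222894)), (24, W (nat_lit 0x101089)), (25, W (nat_lit 0x40400892)), (26, W (nat_lit 0x22348a)), (31, W (nat_lit 0x201006)), (37, W (nat_lit 0x403)), (46, W (nat_lit 0x40124c8a)), (55, W (nat_lit 0x40124405)), (57, W (nat_lit 0x80225804)), (60, W (nat_lit 0x10048b)), (0, [])] (.cons (.img [0] 0 (.orb 1 (.img [1] 0 (.and 2 0 (.mis 0)))))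
 (.cons (.orb 0 (.img [0] 1 (.dif 1 0 (.mis 0))))
 (.cons (.orb 0 (.img [0] 1 (.dif 1 0 (.mis 0))))
 (.cons (.img [0] 0 (.orb 0 (.and 1 0 (.mis 0))))
 (.cons (.orb 0 (.img [1] 0 (.img (W (nat_lit 0x401)) 1 (.and 1 0 (.img (W (nat_lit 0x802)) 3 (.and 1 0 (.img (W (nat_lit 0x200802)) 5 (.and 1 0 (.orb 1 (.and 1 0 (.img [0] 1 (.and 1 0 (.img (W (nat_lit 0x100401)) 3 (.and 1 0 (.br 0 [] [] [(113, W (nat_lit 0x424005))] (.cons (.img [0] 15 (.orb 4 (.and 1 0 (.mis 0))))
 .nil))))))))))))))))
 (.cons (.img [0] 0 (.orb 1 (.img [1] 0 (.and 2 0 (.mis 0)))))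
 (.cons (.orb 0 (.img [0] 1 (.dif 1 0 (.mis 0))))
 (.cons (.img [0] 0 (.orb 1 (.and 1 0 (.mis 0))))
 (.cons (.img (W (nat_lit 0x802)) 0 (.orb 1 (.and 1 0 (.mis 0))))
 (.cons (.img (W (nat_lit 0x802)) 0 (.orb 1 (.and 1 0 (.mis 0))))
 (.cons (.img [0] 0 (.orb 1 (.img (W (nat_lit 0x802)) 0 (.and 2 0 (.mis 0)))))
 (.cons (.img [0] 0 (.orb 1 (.and 1 0 (.mis 0))))
 (.cons (.img [0] 0 (.orb 1 (.img (W (nat_lit 0x802)) 0 (.and 2 0 (.mis 0)))))
 (.cons (.orb 0 (.img [0] 1 (.dif 1 0 (.mis 0))))
 (.cons (.img [0] 0 (.orb 1 (.img (W (nat_lit 0x802)) 0 (.and 2 0 (.mis 0)))))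
 (.cons (.orb 0 (.img [1] 0 (.img (W (nat_lit 0x401)) 1 (.and 1 0 (.img (W (nat_lit 0x802)) 3 (.and 1 0 (.img (W (nat_lit 0x200802)) 5 (.and 1 0 (.orb 1 (.and 1 0 (.img [0] 1 (.and 1 0 (.img (W (nat_lit 0x100401)) 3 (.and 1 0 (.br 0 [] [] [(272, W (nat_lit 0x188c))] (.cons (.orb 1 (.img [0] 0 (.and 3 0 (.mis 0))))
 .nil))))))))))))))))
 (.cons (.img [0] 0 (.orb 1 (.and 1 0 (.mis 0))))
 (.cons (.img [0] 0 (.orb 1 (.img [1] 0 (.and 2 0 (.mis 0)))))
 (.cons (.orb 0 (.img (W (nat_lit 0x401)) 1 (.dif 1 0 (.mis 0))))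
 (.cons (.orb 0 (.img [1] 0 (.img (W (nat_lit 0x401)) 1 (.and 1 0 (.img (W (nat_lit 0x802)) 3 (.and 1 0 (.img (W (nat_lit 0x200802)) 5 (.and 1 0 (.orb 1 (.and 1 0 (.img [0] 1 (.and 1 0 (.img (W (nat_lit 0x100401)) 3 (.and 1 0 (.br 0 [] [] [(78, W (nat_lit 0x188f))] (.cons (.img [0] 14 (.orb 3 (.and 1 0 (.mis 0))))
 .nil))))))))))))))))
 (.cons (.img [0] 0 (.orb 1 (.img (W (nat_lit 0x802)) 0 (.and 2 0 (.mis 0)))))
 (.cons (.orb 0 (.img [1] 0 (.img (W (nat_lit 0x401)) 1 (.and 1 0 (.img (W (nat_lit 0x802)) 3 (.and 1 0 (.img (W (nat_lit 0x200802)) 5 (.and 1 0 (.orb 1 (.and 1 0 (.img [0] 1 (.and 1 0 (.img (W (nat_lit 0x100401)) 3 (.and 1 0 (.br 0 [] [] [(241, W (nat_lit 0x108a0148f))] (.cons (.img [0] 15 (.orb 4 (.img (W (nat_lit 0x802)) 0 (.and 2 0 (.mis 0)))))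
 .nil))))))))))))))))
 (.cons (.orb 0 (.img [1] 0 (.img (W (nat_lit 0x401)) 1 (.and 1 0 (.img (W (nat_lit 0x802)) 3 (.and 1 0 (.img (W (nat_lit 0x200802)) 5 (.and 1 0 (.orb 1 (.and 1 0 (.img [0] 1 (.and 1 0 (.img (W (nat_lit 0x100401)) 3 (.and 1 0 (.br 0 [] [] [(227, W (nat_lit 0xc8a))] (.cons (.orb 4 (.img [0] 16 (.dif 1 0 (.mis 0))))
 .nil))))))))))))))))
 (.cons (.orb 0 (.img [1] 0 (.img (W (nat_lit 0x401)) 1 (.and 1 0 (.img (W (nat_lit 0x802)) 3 (.and 1 0 (.img (W (nat_lit 0x200802)) 5 (.and 1 0 (.orb 1 (.and 1 0 (.img [0] 1 (.and 1 0 (.img (W (nat_lit 0x100401)) 3 (.and 1 0 (.br 0 [] [] [(326, W (nat_lit 0x1490))] (.cons (.orb 3 (.img [1] 2 (.dif 1 0 (.mis 0))))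
 .nil))))))))))))))))
 (.cons (.orb 0 (.img [1] 0 (.img (W (nat_lit 0x401)) 1 (.and 1 0 (.img (W (nat_lit 0x802)) 3 (.and 1 0 (.img (W (nat_lit 0x200802)) 5 (.and 1 0 (.orb 1 (.and 1 0 (.img [0] 1 (.and 1 0 (.img (W (nat_lit 0x100401)) 3 (.and 1 0 (.br 0 [] [] [(320, W (nat_lit 0xc89))] (.cons (.orb 3 (.img [1] 0 (.and 16 0 (.mis 0))))
 .nil))))))))))))))))
 (.cons (.orb 0 (.img [1] 0 (.img (W (nat_lit 0x401)) 1 (.and 1 0 (.img (W (nat_lit 0x802)) 3 (.and 1 0 (.orb 1 (.and 1 0 (.img (W (nat_lit 0x200802)) 7 (.and 1 0 (.img [0] 3 (.and 1 0 (.img (W (nat_lit 0x100401)) 5 (.and 1 0 (.br 0 [] [] [(35, [])] (.cons (.orb 0 (.orb 1 (.img [0] 0 (.and 2 0 (.img [1] 3 (.and 1 0 (.orb 2 (.img (W (nat_lit 0x401)) 0 (.and 2 0 (.br 0 [] [] [(2, [])] (.cons (.orb 0 (.orb 1 (.img [0] 0 (.and 2 0 (.img [1] 12 (.dif 1 0 (.br 0 [] [] [(40, [])] (.cons (.orb 0 (.img [1] 11 (.and 1 0 (.br 0 [] [] [(5, [])] (.cons (.orb 0 (.img [1] 0 (.br 0 [] [] [(121, [])] (.cons .fnd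
 .nil))))
 .nil)))))
 .nil))))))))
 .nil)))))))))))
 .nil))))))))))))))))
 .nil))))))))))))))))))))))))))))

theorem xzo0 : allL (fun p : ℕ × ℕ => movB CL.Std.PS63.P.n CL.Std.PS63.P.N xns (powW [150] (6 / p.1)) p.2) [(2, 0), (3, 0)] = true := by decide +kernel
theorem xzr1 : xchk [(powW [150] 6, [])] = true := by decide +kernel
theorem xzm2 : leB xD [[150]] [[0], [2]] = true := by decide +kernel
theorem xzo3 : allL (fun p : ℕ × ℕ => movB CL.Std.PS63.P.n CL.Std.PS63.P.N xns (powW [152] (10 / p.1)) p.2) [(2, 0), (5, 0)] = true := by decide +kernel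
theorem xzr4 : xchk [(powW [152] 10, [])] = true := by decide +kernel
theorem xzm5 : leB xD [[152]] [[0], [2]] = true := by decide +kernel
theorem xzo6 : allL (fun p : ℕ × ℕ => movB CL.Std.PS63.P.n CL.Std.PS63.P.N xns (powW [154] (14 / p.1)) p.2) [(2, 0), (7, 0)] = true := by decide +kernel
theorem xzr7 : xchk [(powW [154] 14, [])] = true := by decide +kernel
theorem xzm8 : leB xD [[154]] [[0], [2]] = true := by decide +kernel
theorem xzo9 : allL (fun p : ℕ × ℕ => movB CL.Std.PS63.P.n CL.Std.PS63.P.N xns (powW [156] (13 / p.1)) p.2) [(13, 0)] = true := by decide +kernel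
theorem xzr10 : xchk [(powW [156] 13, [])] = true := by decide +kernel
theorem xzr11 : xchk (pcsR xpg_K13_ps []) = true := by decide +kernel
theorem xzb12 : bnd (pcsB xD xpg_K13_ps []) (leB (app xD []) [[158]] (pcGens xpg_K13_ps [])) = true := by decide +kernel
theorem xzc13 : CL.Std.PS63.P.chainB xns xD xpg_K13_vs [[158]] = true := by decide +kernel
theorem xzf14 : CL.Std.PS63.P.fixXB xns (diag [[156]]) xpg_c13_F = true := by decide +kernel
theorem xzc15 : CL.Std.PS63.P.chainB xns xD xpg_c13G_vs [[0], [2]] = true := by decide +kernel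
theorem xzs16 : ssB CL.Std.PS63.P.N xns xD (mkS CL.Std.PS63.P.n xpg_c13G_vs xpg_c13_x) [[0], [2]] = true := by decide +kernel
theorem xzs18 : xpg_c13_G.chk xzt17 xpg_c13_s none = true := by decide +kernel
theorem xzr19 : xchk (comR [[158]] (mapL Prod.snd (diag [[156]]))) = true := by decide +kernel
theorem xzm20 : leB xD [[158]] [[0], [2]] = true := by decide +kernel
theorem xzm21 : leB xD [[156]] [[0], [2]] = true := by decide +kernel
theorem xzo22 : allL (fun p : ℕ × ℕ => movB CL.Std.PS63.P.n CL.Std.PS63.P.N xns (powW [160] (15 / p.1)) p.2) [(3, 0), (5, 0)] = true := by decide +kernel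
theorem xzr23 : xchk [(powW [160] 15, [])] = true := by decide +kernel
theorem xzm24 : leB xD [[160]] [[0], [2]] = true := by decide +kernel
theorem xzo25 : allL (fun p : ℕ × ℕ => movB CL.Std.PS63.P.n CL.Std.PS63.P.N xns (powW [162] (7 / p.1)) p.2) [(7, 0)] = true := by decide +kernel
theorem xzr26 : xchk [(powW [162] 7, [])] = true := by decide +kernel
theorem xzr27 : xchk (pcsR xpg_K7_ps []) = true := by decide +kernel
theorem xzb28 : bnd (pcsB xD xpg_K7_ps []) (leB (app xD []) [[164]] (pcGens xpg_K7_ps [])) = true := by decide +kernel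
theorem xzc29 : CL.Std.PS63.P.chainB xns xD xpg_K7_vs [[164]] = true := by decide +kernel
theorem xzf30 : CL.Std.PS63.P.fixXB xns (diag [[162]]) xpg_c7_F = true := by decide +kernel
theorem xzc31 : CL.Std.PS63.P.chainB xns xD xpg_c7G_vs [[0], [2]] = true := by decide +kernel
theorem xzs32 : ssB CL.Std.PS63.P.N xns xD (mkS CL.Std.PS63.P.n xpg_c7G_vs xpg_c7_x) [[0], [2]] = true := by decide +kernel
theorem xzs34 : xpg_c7_G.chk xzt33 xpg_c7_s none = true := by decide +kernel
theorem xzr35 : xchk (comR [[164]] (mapL Prod.snd (diag [[162]]))) = true := by decide +kernel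
theorem xzm36 : leB xD [[164]] [[0], [2]] = true := by decide +kernel
theorem xzm37 : leB xD [[162]] [[0], [2]] = true := by decide +kernel
theorem xze38 : extB CL.Std.PS63.ns xns 75 xws CL.Std.PS63.D = true := by decide +kernel
theorem xzn39 : CL.Std.PS63.P.netsB xns (mkDefs xws 75) = true := by decide +kernel

variable {G X : Type*} [Group G] [MulAction G X] {e : ℕ → X} {gs : List G}

theorem xlen {k} (c : Ctx CL.Std.PS63.P e gs CL.Std.PS63.ns CL.Std.PS63.D k) : gs.length = 75 := c.len xze38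

theorem xctx0 {k} (c : Ctx CL.Std.PS63.P e gs CL.Std.PS63.ns CL.Std.PS63.D k) : Ctx CL.Std.PS63.P e (ext gs xws) xns xD chk0 :=
  c.ext rfl xze38 xzn39

theorem xctx {k} (c : Ctx CL.Std.PS63.P e gs CL.Std.PS63.ns CL.Std.PS63.D k) {H : Subgroup G} (hF : Faithful e CL.Std.PS63.P.n H) (hH : ∀ g ∈ gs, g ∈ H) :
    Ctx CL.Std.PS63.P e (ext gs xws) xns xD xchk :=
  (xctx0 c).withB hF (mem_of_mem_ext hH _)

theorem xpg_o6 (c : Ctx CL.Std.PS63.P e gs xns xD xchk) :
    orderOf (wordG gs [150]) = 6 :=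
  c.orderOf_eq (ps := [(2, 0), (3, 0)]) (by norm_num) xzr1 xzo0 (by decide +kernel)

theorem xpg_o10 (c : Ctx CL.Std.PS63.P e gs xns xD xchk) :
    orderOf (wordG gs [152]) = 10 :=
  c.orderOf_eq (ps := [(2, 0), (5, 0)]) (by norm_num) xzr4 xzo3 (by decide +kernel)

theorem xpg_o14 (c : Ctx CL.Std.PS63.P e gs xns xD xchk) :
    orderOf (wordG gs [154]) = 14 :=
  c.orderOf_eq (ps := [(2, 0), (7, 0)]) (by norm_num) xzr7 xzo6 (by decide +kernel)

theorem xpg_o13 (c : Ctx CL.Std.PS63.P e gs xns xD xchk) :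
    orderOf (wordG gs [156]) = 13 :=
  c.orderOf_eq (ps := [(13, 0)]) (by norm_num) xzr10 xzo9 (by decide +kernel)

theorem xpg_K13_pr (c : Ctx CL.Std.PS63.P e gs xns xD xchk) :
    Rels gs (pcsR xpg_K13_ps []) :=
  (c.rels _ xzr11)

theorem xpg_K13_pe (c : Ctx CL.Std.PS63.P e gs xns xD xchk) :
    Rels gs (defRels []) :=
  (Rels.nil _)

theorem xpg_K13_pb : bnd (pcsB xD xpg_K13_ps []) (leB (app xD []) [[158]] (pcGens xpg_K13_ps [])) = true := xzb12

theorem xpg_K13_ub (c : Ctx CL.Std.PS63.P e gs xns xD xchk) :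
    UB (subW gs [[158]]) 13 :=
  c.pcs (UB.nil gs) (xpg_K13_pe c) (xpg_K13_pr c) xpg_K13_pb (by decide +kernel)

theorem xpg_K13_c : CL.Std.PS63.P.chainB xns xD xpg_K13_vs [[158]] = true :=
  xzc13

theorem xpg_K13_o : prodL xpg_K13_vs 1 = 13 := by decide +kernel

theorem xpg_K13_lb (c : Ctx CL.Std.PS63.P e gs xns xD xchk) :
    LB (subW gs [[158]]) 13 :=
  c.lb xpg_K13_c xpg_K13_o

theorem xpg_K13_card (c : Ctx CL.Std.PS63.P e gs xns xD xchk) :
    Nat.card (subW gs [[158]]) = 13 :=
  (xpg_K13_ub c).card_eq (xpg_K13_lb c)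

theorem xpg_c13G_c : CL.Std.PS63.P.chainB xns xD xpg_c13G_vs [[0], [2]] = true :=
  xzc15

theorem xpg_c13G_o : prodL xpg_c13G_vs 1 = 4585351680 := by decide +kernel

theorem xpg_c13 (c : Ctx CL.Std.PS63.P e gs xns xD xchk) (hc : Nat.card (subW gs [[0], [2]]) = 4585351680) :
    (subW gs [[0], [2]]) ⊓ Subgroup.centralizer (subW gs [[156]] : Set G) = (subW gs [[158]]) :=
  c.cent (lx := [[156]]) (Rels.nil _) (c.sOk (c.exact xpg_c13G_c xpg_c13G_o (UB.of_card hc (by norm_num))) xzs16) (fun _ h => by cases h)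
    (c.fixX xzf14) (c.rels _ xzr19) xzm20 xzs18

theorem xpg_o15 (c : Ctx CL.Std.PS63.P e gs xns xD xchk) :
    orderOf (wordG gs [160]) = 15 :=
  c.orderOf_eq (ps := [(3, 0), (5, 0)]) (by norm_num) xzr23 xzo22 (by decide +kernel)

theorem xpg_o7 (c : Ctx CL.Std.PS63.P e gs xns xD xchk) :
    orderOf (wordG gs [162]) = 7 :=
  c.orderOf_eq (ps := [(7, 0)]) (by norm_num) xzr26 xzo25 (by decide +kernel)

theorem xpg_K7_pr (c : Ctx CL.Std.PS63.P e gs xns xD xchk) :
    Rels gs (pcsR xpg_K7_ps []) :=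
  (c.rels _ xzr27)

theorem xpg_K7_pe (c : Ctx CL.Std.PS63.P e gs xns xD xchk) :
    Rels gs (defRels []) :=
  (Rels.nil _)

theorem xpg_K7_pb : bnd (pcsB xD xpg_K7_ps []) (leB (app xD []) [[164]] (pcGens xpg_K7_ps [])) = true := xzb28

theorem xpg_K7_ub (c : Ctx CL.Std.PS63.P e gs xns xD xchk) :
    UB (subW gs [[164]]) 14 :=
  c.pcs (UB.nil gs) (xpg_K7_pe c) (xpg_K7_pr c) xpg_K7_pb (by decide +kernel)

theorem xpg_K7_c : CL.Std.PS63.P.chainB xns xD xpg_K7_vs [[164]] = true :=
  xzc29

theorem xpg_K7_o : prodL xpg_K7_vs 1 = 14 := by decide +kernel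

theorem xpg_K7_lb (c : Ctx CL.Std.PS63.P e gs xns xD xchk) :
    LB (subW gs [[164]]) 14 :=
  c.lb xpg_K7_c xpg_K7_o

theorem xpg_K7_card (c : Ctx CL.Std.PS63.P e gs xns xD xchk) :
    Nat.card (subW gs [[164]]) = 14 :=
  (xpg_K7_ub c).card_eq (xpg_K7_lb c)

theorem xpg_c7G_c : CL.Std.PS63.P.chainB xns xD xpg_c7G_vs [[0], [2]] = true :=
  xzc31

theorem xpg_c7G_o : prodL xpg_c7G_vs 1 = 4585351680 := by decide +kernel

theorem xpg_c7 (c : Ctx CL.Std.PS63.P e gs xns xD xchk) (hc : Nat.card (subW gs [[0], [2]]) = 4585351680) :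
    (subW gs [[0], [2]]) ⊓ Subgroup.centralizer (subW gs [[162]] : Set G) = (subW gs [[164]]) :=
  c.cent (lx := [[162]]) (Rels.nil _) (c.sOk (c.exact xpg_c7G_c xpg_c7G_o (UB.of_card hc (by norm_num))) xzs32) (fun _ h => by cases h)
    (c.fixX xzf30) (c.rels _ xzr35) xzm36 xzs34

theorem xpg (c : Ctx CL.Std.PS63.P e gs xns xD xchk) (hc : Nat.card (subW gs [[0], [2]]) = 4585351680) :
    CL.Comp.HasPG (subW gs [[0], [2]]) [2, 3, 5, 7, 13] [(2, 3), (2, 5), (2, 7), (3, 5)] :=
  CL.Comp.hasPG_of (k := 9) (N := [(13, 2), (7, 3), (13, 3), (7, 5), (13, 5), (13, 7)]) hc (by norm_num) (by norm_num)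
    (by
      simp only [List.forall_mem_cons]
      exact ⟨mem_spec_subW (c.mem xzm2) (xpg_o6 c),
        mem_spec_subW (c.mem xzm5) (xpg_o10 c),
        mem_spec_subW (c.mem xzm8) (xpg_o14 c),
        mem_spec_subW (c.mem xzm24) (xpg_o15 c),
        fun _ h => by cases h⟩)
    (by
      simp only [List.forall_mem_cons]
      exact ⟨not_mem_spec_subW hc (c.mem xzm21) (xpg_o13 c) (xpg_c13 c hc) (xpg_K13_card c) (by norm_num),
        not_mem_spec_subW hc (c.mem xzm37) (xpg_o7 c) (xpg_c7 c hc) (xpg_K7_card c) (by norm_num),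
        not_mem_spec_subW hc (c.mem xzm21) (xpg_o13 c) (xpg_c13 c hc) (xpg_K13_card c) (by norm_num),
        not_mem_spec_subW hc (c.mem xzm37) (xpg_o7 c) (xpg_c7 c hc) (xpg_K7_card c) (by norm_num),
        not_mem_spec_subW hc (c.mem xzm21) (xpg_o13 c) (xpg_c13 c hc) (xpg_K13_card c) (by norm_num),
        not_mem_spec_subW hc (c.mem xzm21) (xpg_o13 c) (xpg_c13 c hc) (xpg_K13_card c) (by norm_num),
        fun _ h => by cases h⟩) (by decide)

theorem hasPG {F : Type*} [Field F] [Fintype F] (hF : Fintype.card F = 3) :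
    CL.Comp.HasPG (Cfsg.PSp 3 F) [2, 3, 5, 7, 13] [(2, 3), (2, 5), (2, 7), (3, 5)] := by
  have c := xctx CL.Std.PS63.c1 (faithful_eF _) fun _ _ => trivial
  have h : subW (ext CL.Std.PS63.gs1 xws) [[0], [2]] = subW CL.Std.PS63.gs1 [[0], [2]] :=
    subW_ext (xlen CL.Std.PS63.c1) _ (by decide +kernel)
  have h1 := xpg c (h ▸ CL.Std.PS63.card)
  rw [h] at h1
  exact h1.of_samePG (CL.Perm.samePG_congr (CL.Std.PS63.iso hF).some)

end CL.Comp.PS63
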