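/-
The group `2⁴⁸ : (Sz(8) : 3)` has the prime graph of `PSp₆(3)`.
-/
import Cfsg.Agent.Comp.Sz83Graph
import Cfsg.Agent.Comp.PS63Graph

namespace CL.Comp

open CL.Perm CL.Mx CL.PG Matrix

section aff

variable {V L : Type*} [AddCommGroup V] [Group L] [Finite L] {ρ : L →* AddMonoid.End V} {p : ℕ}

theorem not_mem_spec_aff (hp : p.Prime) (he : ∀ v : V, p • v = 0) {n : ℕ} (h1 : ¬ p ∣ n) (h2 : n ∉ Spec L) :
    n ∉ Spec (Aff ρ) := fun h => by
  rcases (Aff.mem_spec_iff hp he).1 h with h | ⟨g, v, -, rfl⟩
  · exact h2 h
  · exact h1 (Dvd.intro _ rfl)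

theorem not_mem_spec_aff_of_fpf (hp : p.Prime) (he : ∀ v : V, p • v = 0) {r : ℕ} (h2 : p * r ∉ Spec L)
    (hf : ∀ g, orderOf g = r → ∀ w, ρ g w = w → w = 0) : p * r ∉ Spec (Aff ρ) := fun h => by
  rcases (Aff.mem_spec_iff hp he).1 h with h | ⟨g, v, h3, h4⟩
  · exact h2 h
  · exact h3 (Aff.nrm_eq_zero_of_fpf (pow_orderOf_eq_one g) 1
      (by simpa using hf g (Nat.eq_of_mul_eq_mul_left hp.pos h4).symm) v)

end aff

theorem exists_fixed_of_code {n a b : ℕ} (h : mul2 n a b = b) (h0 : ∃ i j : Fin n, b.testBit (i * n + j) = true) :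
    ∃ v : Fin n → ZMod 2, v ≠ 0 ∧ dec2 n a *ᵥ v = v := by
  obtain ⟨i, j, h0⟩ := h0
  have h1 := congrArg (dec2 n) h
  rw [dec2_mul2] at h1
  refine ⟨fun k => dec2 n b k j, fun e => ?_, funext fun k => congrFun (congrFun h1 k) j⟩
  have h2 := congrFun e i
  simp [dec2, h0] at h2

namespace Sz83

/-- codes of the generators -/
noncomputable def cd (i : ℕ) : ℕ := nth 0 [0x5eb36668dc7caf1997366f1a99768df1aaf11180f01e81600880780f01900781e8190088ac0980340f00c405c09806805c0340680c40600c00a00800200e00c00400e00a00400200000f1ac7c00000068df1a000000c7caf10000001901600000001e8190000000160088000000680f00000000340680000000f00c40000000400800000000a0040000000080020000068dc7c000000366f1a000000f1aaf10000001e81600000000f0190000000190088000000340f00000000980680000000680c40000000a00800000000c00400000000400200000000c7c000000000f1a000000000af1000000000160000000000190000000000088000000000f00000000000680000000000c40000000000800000000000400000000000200000000000,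
  0xcc2e45000bc4e45706000cc2bc4cc2000581610228000e20228830000610e20610000c08080140000100140180000080100080000040400a00000800a00c00000400800400000200e45000bc4000706000cc2000cc2000581000228000e20000830000610000610000c08000140000100000180000080000080000040000a00000800000c00000400000400000200000000bc4000000000cc2000000000581000000000e20000000000610000000000c08000000000100000000000080000000000040000000000800000000000400000000000200000000bc4000000000cc2000000000581000000000e20000000000610000000000c08000000000100000000000080000000000040000000000800000000000400000000000200000000000,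
  0x8d33e7f5d3e7b344693e746978ef5db34f5d0a610d0fc10d1ab15710d15705a0fc1ab0fcb2a4543cb454f7ecb5454cb58e13cbf7e3cb5c3987685987c44ac1987ac1346685c44685000f5d8d378e0003e7b348d3000b3478ecba0000fc0a605a00010d1ab0a60001ab05a1f10003cbb2a8e1000454f7eb2a000f7e8e179f0006855c3346000987c445c3000c44346f024698d3469f5dcbab34cba3e73e778e3e7b341570a61570fc1f11ab1f110d10d05a10d1abcb5b2acb53cb79ff7e79f4544548e1454f7eac15c3ac1685f02c44f02987987346987c44f5db340003e73e7f5d000469b348d3000f5d0fc1ab00010d10d0fc0001571ab0a60000fc3cbf7e0004544543cb000cb5f7eb2a0003cb685c44000987987685000ac1c445c3000685] i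

/-- the letters -/
noncomputable abbrev gsx : List (GL (Fin 48) (ZMod 2)) :=
  ext (List.map (glF (fun a : ℕ => (a : ZMod 2)) (Fin.val : Fin 48 → ℕ)) ms) ws

theorem val_gen (i : ℕ) (hi : i < 3) : (wordG gsx [2 * i]).val = dec2 48 (cd i) := by
  have h := fc_zmod 2
  have h1 : ∀ m ∈ ms, (glF (fun a : ℕ => (a : ZMod 2)) (Fin.val : Fin 48 → ℕ) m).val =
      matF (fun a : ℕ => (a : ZMod 2)) Fin.val (look m.1) := fun m hm => coe_glF h (ix_fin 48) (allL_spec hinv m hm)
  have h2 : ∀ i < 3, ∀ j k : Fin 48, ((look (nth ([], []) ms i).1 j k : ℕ) : ZMod 2) =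
      b2 ((cd i).testBit (j * 48 + k)) := by decide +kernel
  rw [wordG_ext (len (base h)) ws (by interval_cases i <;> decide +kernel), wordG_single, letG_even]
  have h3 : dec2 48 (cd i) = matF (fun a : ℕ => (a : ZMod 2)) Fin.val (look (nth ([], []) ms i).1) := by
    ext j k; exact (h2 i hi j k).symm
  rw [h3]
  interval_cases i
  · exact h1 _ (List.mem_cons_self ..)
  · exact h1 _ (List.mem_cons_of_mem _ (List.mem_cons_self ..))
  · exact h1 _ (List.mem_cons_of_mem _ (List.mem_cons_of_mem _ (List.mem_cons_self ..)))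

/-- the group -/
noncomputable abbrev G0 : Subgroup (GL (Fin 48) (ZMod 2)) := subW gsx [[0], [2], [4]]

/-- the action on vectors -/
noncomputable def act : G0 →* AddMonoid.End (Fin 48 → ZMod 2) := matAct ((Units.coeHom _).comp G0.subtype)

theorem hasPG_aff : HasPG (Aff act) [2, 3, 5, 7, 13] [(2, 3), (2, 5), (2, 7), (3, 5)] := by
  have c := c1 (fc_zmod 2)
  have hc : Nat.card G0 = 87360 := G_card c
  have : Finite G0 := Nat.finite_of_card_ne_zero (by rw [hc]; norm_num)
  have h : HasPG G0 _ _ := pg c
  have he : ∀ v : Fin 48 → ZMod 2, 2 • v = 0 := fun v => by ext; simp [CharTwo.two_eq_zero]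
  have hi := spec_subset_of_injective _ (Aff.inr_injective (ρ := act))
  let g13 : G0 := ⟨wordG gsx [0], mem_subW (by simp)⟩
  let g7 : G0 := ⟨wordG gsx [2], mem_subW (by simp)⟩
  let g15 : G0 := ⟨wordG gsx [4], mem_subW (by simp)⟩
  have o13 : orderOf g13 = 13 := (Subgroup.orderOf_mk _ _).trans (pg_o13 c)
  have o7 : orderOf g7 = 7 := (Subgroup.orderOf_mk _ _).trans (pg_o7 c)
  have o5 : orderOf (g15 ^ 3) = 5 := by
    rw [orderOf_pow' _ (by norm_num), show orderOf g15 = 15 from (Subgroup.orderOf_mk _ _).trans (o15 c)]; rfl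
  have a13 : ∀ v, act g13 v = dec2 48 (cd 0) *ᵥ v := fun v => by rw [← val_gen 0 (by norm_num)]; rfl
  have a7 : ∀ v, act g7 v = dec2 48 (cd 1) *ᵥ v := fun v => by rw [← val_gen 1 (by norm_num)]; rfl
  have a5 : ∀ v, act (g15 ^ 3) v = dec2 48 (pow2 48 (cd 2) 3) *ᵥ v := fun v => by
    rw [dec2_pow2, ← val_gen 2 (by norm_num)]; rfl
  have n : ∀ r s : ℕ, r.Prime ∧ s.Prime ∧ r ≠ s ∧ ¬ ((r, s) ∈ [(2, 3), (3, 5)] ∨ (s, r) ∈ [(2, 3), (3, 5)]) →
      r * s ∉ Spec G0 := fun r s k => mt (h.2 r s k.1 k.2.1 k.2.2.1).1 k.2.2.2
  refine hasPG_of (o := 2 ^ 48 * 87360) (k := 54) (N := [(2, 13), (3, 7), (3, 13), (5, 7), (5, 13), (7, 13)])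
    (by rw [Aff.card_eq, hc]; simp) (by norm_num) (by norm_num) ?_ ?_ (by decide)
  · simp only [List.forall_mem_cons]
    refine ⟨hi ((h.2 2 3 (by norm_num) (by norm_num) (by norm_num)).2 (by decide)), ?_, ?_,
      hi ((h.2 3 5 (by norm_num) (by norm_num) (by norm_num)).2 (by decide)), fun _ h => by cases h⟩
    · obtain ⟨v, h0, hv⟩ := exists_fixed_of_code (n := 48) (a := pow2 48 (cd 2) 3)
        (b := 0x1000000000001000000000001000000000000000000000001000000000001000000000000000000000000000000000001000000000000000000000001000000000001000000000000000000000001000000000000000000000000000000000001000000000001000000000001000000000000000000000000000000000000000000000000000000000001000000000001000000000000000000000001000000000001000000000000000000000000000000000000000000000000000000000000000000000000000000000000000000000000000000000000) (by decide +kernel) (by decide +kernel)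
      exact o5 ▸ Aff.mul_mem_spec_of_fixed Nat.prime_two he h0 ((a5 v).trans hv) (by rw [o5]; norm_num)
    · obtain ⟨v, h0, hv⟩ := exists_fixed_of_code (n := 48) (a := cd 1)
        (b := 0x1000000000000000000000001000000000000000000000000000000000000000000000000000000000000000000000000000000000000000000000001000000000001000000000000000000000001000000000001000000000001000000000001000000000001000000000001000000000001000000000001000000000000000000000000000000000000000000000000000000000000000000000000000000000000000000000000000000000001000000000000000000000000000000000000000000000001000000000000000000000000000000000000000000000000000000000000000000000000) (by decide +kernel) (by decide +kernel)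
      exact o7 ▸ Aff.mul_mem_spec_of_fixed Nat.prime_two he h0 ((a7 v).trans hv) (by rw [o7]; norm_num)
  · simp only [List.forall_mem_cons]
    refine ⟨not_mem_spec_aff_of_fpf Nat.prime_two he (n 2 13 (by norm_num)) ?_,
      not_mem_spec_aff Nat.prime_two he (by norm_num) (n 3 7 (by norm_num)),
      not_mem_spec_aff Nat.prime_two he (by norm_num) (n 3 13 (by norm_num)),
      not_mem_spec_aff Nat.prime_two he (by norm_num) (n 5 7 (by norm_num)),
      not_mem_spec_aff Nat.prime_two he (by norm_num) (n 5 13 (by norm_num)),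
      not_mem_spec_aff Nat.prime_two he (by norm_num) (n 7 13 (by norm_num)), fun _ h => by cases h⟩
    refine fpf_of_sylow act (by norm_num) (by rw [hc]; norm_num) o13 fun w hw => ?_
    exact fpf_of_code (c := 0x1476b91c3fe818335c0c16f0086f33187d90a4d745e84045d263867421064dae82d010c2ed27c4382a0f66d2c29c5c23de4f8174441eead25b778147776909398183d126ffeb008667894a4780a33185a5b18151ef029c8f010f007e8b047e00003761103600006d1f0c6c00e011d3e09b976040e9624debc031a7c1b5661c34b91c26780c1b5c0c5318187933184ef02db118ada729849088c4d2b47ff0785fce53e87043f896077431017e4203d060c7d5be0658660c5f53eabc7222afe8f5945e199aa7947b90c04382db3dc040a18849f731c08307fffe83bb6782af6f09d9318973d90777ef0716045e03007b88106601003de00c2c07006558a0fd93e014edc23fe9604a7641eb67c039d21476b91c3fec18335c0c16f2086f33187d91) (by decide +kernel) w ((a13 w).symm.trans hw)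

theorem exists_large {F : Type*} [Field F] [Fintype F] (hF : Fintype.card F = 3) (N : ℕ) :
    ∃ (H : Type) (_ : Group H) (_ : Finite H), N < Nat.card H ∧ SamePG (Cfsg.PSp 3 F) H := by
  have : Finite G0 := Nat.finite_of_card_ne_zero (by rw [G_card (c1 (fc_zmod 2))]; norm_num)
  exact Aff.exists_large_samePG_aff' ((PS63.hasPG hF).samePG hasPG_aff) N

end Sz83

end CL.Comp
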